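import Groth.Agent.Lib.PointBlowUp32.Exceptional
import Groth.Agent.Lib.BlowUp26.Basic
import Groth.Agent.Lib.ArInter.Deg
import Groth.Agent.Lib.Descend.BaseChangeAt
import Mathlib

/-!
# The exceptional curve of a point blowing up
-/

set_option autoImplicit false
set_option linter.style.haveILetI false
set_option linter.unusedSectionVars false
set_option backward.isDefEq.respectTransparency false
set_option maxHeartbeats 2000000

universe u

open CategoryTheory CategoryTheory.Limits AlgebraicGeometry TopologicalSpace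

noncomputable section

namespace Groth.Agent.PointBlowUp

variable {Y : Scheme.{u}} {y : Y} (hy : IsClosed ({y} : Set Y))

/-- The reduced point. -/
abbrev ptIdeal : Y.IdealSheafData := Scheme.IdealSheafData.vanishingIdeal ⟨{y}, hy⟩

include hy in
theorem isClosedImmersion_residue : IsClosedImmersion (Y.fromSpecResidueField y) :=
  IsClosedImmersion.of_isPreimmersion _ (by rw [Scheme.range_fromSpecResidueField]; exact hy)

theorem ker_fromSpecResidueField : (Y.fromSpecResidueField y).ker = ptIdeal hy := by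
  haveI := isClosedImmersion_residue hy
  rw [RedSepLib.ker_eq_vanishingIdeal]
  refine congrArg Scheme.IdealSheafData.vanishingIdeal (Closeds.ext ?_)
  show closure (Set.range (Y.fromSpecResidueField y)) = {y}
  rw [Scheme.range_fromSpecResidueField, hy.closure_eq]

theorem map_germ_vanishing (U : Y.affineOpens) (hyU : y ∈ U.1) :
    ((ptIdeal hy).ideal U).map (Y.presheaf.germ U.1 y hyU).hom =
      IsLocalRing.maximalIdeal (Y.presheaf.stalk y) := by
  have hpre : (U.2.fromSpec ⁻¹' ({y} : Set Y)) = {U.2.primeIdealOf ⟨y, hyU⟩} := by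
    ext P
    rw [Set.mem_preimage, Set.mem_singleton_iff, Set.mem_singleton_iff]
    constructor
    · intro h
      exact U.2.fromSpec.isOpenEmbedding.injective (h.trans (U.2.fromSpec_primeIdealOf ⟨y, hyU⟩).symm)
    · rintro rfl
      exact U.2.fromSpec_primeIdealOf ⟨y, hyU⟩
  rw [Scheme.IdealSheafData.vanishingIdeal_ideal]
  change Ideal.map _ (PrimeSpectrum.vanishingIdeal (U.2.fromSpec ⁻¹' ({y} : Set Y))) = _
  rw [hpre, PrimeSpectrum.vanishingIdeal_singleton]
  letI := TopCat.Presheaf.algebra_section_stalk Y.presheaf (⟨y, hyU⟩ : U.1)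
  haveI := U.2.isLocalization_stalk ⟨y, hyU⟩
  exact IsLocalization.AtPrime.map_eq_maximalIdeal (U.2.primeIdealOf ⟨y, hyU⟩).asIdeal (Y.presheaf.stalk y)

theorem comap_fromSpecStalk :
    (ptIdeal hy).comap (Y.fromSpecStalk y) =
      Curv2.idealSheaf (Y.presheaf.stalk y) (IsLocalRing.maximalIdeal _) := by
  obtain ⟨U, hU, hyU, -⟩ := exists_isAffineOpen_mem_and_subset (X := Y) (x := y) (U := ⊤) trivial
  have hle : (⊤ : (Spec (Y.presheaf.stalk y)).Opens) ≤ Y.fromSpecStalk y ⁻¹ᵁ U := fun z _ => by
    have hz : Y.fromSpecStalk y z ∈ Set.range (Y.fromSpecStalk y) := ⟨z, rfl⟩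
    rw [Scheme.range_fromSpecStalk] at hz
    exact (hz : Y.fromSpecStalk y z ⤳ y).mem_open U.2 hyU
  refine Scheme.IdealSheafData.ext_of_isAffine ?_
  rw [EffCartier.comap_ideal _ (Y.fromSpecStalk y) ⟨U, hU⟩ ⟨⊤, isAffineOpen_top _⟩ hle]
  have happ : (Y.fromSpecStalk y).appLE U ⊤ hle =
      Y.presheaf.germ U y hyU ≫ (Scheme.ΓSpecIso (Y.presheaf.stalk y)).inv := by
    rw [Scheme.Hom.appLE, Scheme.fromSpecStalk_app hyU]
    simp only [Category.assoc, ← Functor.map_comp]
    rw [show (Spec (Y.presheaf.stalk y)).presheaf.map _ = 𝟙 _ from (congrArg _ (Subsingleton.elim _ (𝟙 _))).trans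
      ((Spec (Y.presheaf.stalk y)).presheaf.map_id _), Category.comp_id]
  rw [happ, CommRingCat.hom_comp, ← Ideal.map_map,
    map_germ_vanishing hy ⟨U, hU⟩ hyU]
  simp [Curv2.idealSheaf]
  rfl

/-- The exceptional curve of the blowing up of a regular point of dimension two. -/
theorem exceptional_point [IsRegularLocalRing (Y.presheaf.stalk y)] (hdim : ringKrullDim (Y.presheaf.stalk y) = 2)
    {X : Scheme.{u}} (f : X ⟶ Y) (hf : BlowUp.IsBlowUp f (ptIdeal hy)) :
    ∃ e : CohB1.ProjSpace 1 (Y.residueField y) ≅ (BlowUp.exceptional f (ptIdeal hy)).subscheme,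
      e.hom ≫ (BlowUp.exceptional f (ptIdeal hy)).subschemeι ≫ f =
        CohB1.ProjSpace.toSpec 1 (Y.residueField y) ≫ Y.fromSpecResidueField y ∧
      Nonempty ((Scheme.Modules.pullback (e.hom ≫ (BlowUp.exceptional f (ptIdeal hy)).subschemeι)).obj
        (ClSub.idealMod (BlowUp.exceptional f (ptIdeal hy))) ≅ Twist.twistProjSpace 1 (Y.residueField y) 1) := by
  let E := BlowUp.exceptional f (ptIdeal hy)
  let fs := Y.fromSpecStalk y
  haveI : Flat fs := Descend.flat_fromSpecStalk _
  have hloc := BlowUp26.isBlowUp_flat_baseChange fs hf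
  rw [comap_fromSpecStalk hy] at hloc
  let q := pullback.snd fs f
  haveI : Flat q := MorphismProperty.pullback_snd _ _ inferInstance
  have hE : BlowUp.exceptional (pullback.fst fs f) (Curv2.idealSheaf (Y.presheaf.stalk y) (IsLocalRing.maximalIdeal _)) =
      E.comap q := by
    show Scheme.IdealSheafData.comap _ _ = ((ptIdeal hy).comap f).comap q
    rw [← comap_fromSpecStalk hy, ← Scheme.IdealSheafData.comap_comp, ← Scheme.IdealSheafData.comap_comp,
      pullback.condition]
  obtain ⟨-, e', he', ⟨eN⟩⟩ := exceptional_local (Y.presheaf.stalk y) hdim (pullback fs f) (pullback.fst fs f) hloc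
  revert e' he' eN
  rw [hE]
  intro e' he' eN
  haveI := isClosedImmersion_residue hy
  have hle : (Y.fromSpecResidueField y).ker ≤ (E.subschemeι ≫ f).ker := by
    rw [ker_fromSpecResidueField hy, ← Scheme.IdealSheafData.map_ker, Scheme.IdealSheafData.ker_subschemeι]
    exact Scheme.IdealSheafData.le_map_comap _ _
  let g := IsClosedImmersion.lift (Y.fromSpecResidueField y) (E.subschemeι ≫ f) hle
  have hg : g ≫ Y.fromSpecResidueField y = E.subschemeι ≫ f := IsClosedImmersion.lift_fac _ _ _
  let l := pullback.lift (f := fs) (g := f) (g ≫ Spec.map (Y.residue y)) E.subschemeι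
    (by rw [Category.assoc]; exact hg)
  have hl : l ≫ q = E.subschemeι := pullback.lift_snd _ _ _
  let sec := pullback.lift (f := q) (g := E.subschemeι) l (𝟙 _) (by rw [hl, Category.id_comp])
  haveI : Mono q := inferInstance
  haveI : IsIso (pullback.snd q E.subschemeι) :=
    ⟨sec, by rw [← cancel_mono (pullback.snd q E.subschemeι), Category.assoc, pullback.lift_snd, Category.comp_id,
      Category.id_comp], pullback.lift_snd _ _ _⟩
  let φ : (E.comap q).subscheme ≅ E.subscheme := E.comapIso q ≪≫ asIso (pullback.snd q E.subschemeι)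
  have hφ : φ.hom ≫ E.subschemeι = (E.comap q).subschemeι ≫ q := by
    show ((E.comapIso q).hom ≫ pullback.snd q E.subschemeι) ≫ E.subschemeι = _
    rw [Category.assoc, ← pullback.condition, ← Category.assoc, Scheme.IdealSheafData.comapIso_hom_fst]
  have hcomp : (e' ≪≫ φ).hom ≫ E.subschemeι = (e'.hom ≫ (E.comap q).subschemeι) ≫ q := by
    rw [Iso.trans_hom, Category.assoc, hφ, Category.assoc]
  refine ⟨e' ≪≫ φ, ?_, ?_⟩
  · rw [← Category.assoc, hcomp, Category.assoc, ← pullback.condition]
    have h := congrArg (fun w => w ≫ fs) he'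
    simp only [Category.assoc] at h ⊢
    exact h
  · obtain ⟨i⟩ := ArInter.nonempty_pullback_idealMod q hf.1 (BlowUp26.isEffCartierIdeal_comap_flat hf.1 q)
    exact ⟨(Scheme.Modules.pullbackCongr hcomp).app _ ≪≫
      ((Scheme.Modules.pullbackComp (e'.hom ≫ (E.comap q).subschemeι) q).app _).symm ≪≫
      (Scheme.Modules.pullback (e'.hom ≫ (E.comap q).subschemeι)).mapIso i ≪≫ eN⟩

/-- The exceptional curve is exceptional of the first kind. -/
theorem isExcCurve_exceptional [IsRegularLocalRing (Y.presheaf.stalk y)] (hdim : ringKrullDim (Y.presheaf.stalk y) = 2)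
    {X : Scheme.{u}} (f : X ⟶ Y) (hf : BlowUp.IsBlowUp f (ptIdeal hy)) :
    Models.IsExcCurve (BlowUp.exceptional f (ptIdeal hy)).subschemeι := by
  obtain ⟨e, -, ⟨eN⟩⟩ := exceptional_point hy hdim f hf
  refine ⟨?_, Y.residueField y, inferInstance, e, ⟨?_⟩⟩
  · rw [Scheme.IdealSheafData.ker_subschemeι]
    exact hf.1
  · exact eqToIso (by rw [Scheme.IdealSheafData.ker_subschemeι]) ≪≫ eN

end Groth.Agent.PointBlowUp
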