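import Groth.Agent.Lib.PointBlowUp32.Global
import Groth.Agent.Lib.RelMin32.Factor
import Groth.Agent.Lib.BlowUpExist.Proper
import Groth.Agent.Lib.BlowUpExist.Glue
import Groth.Agent.Lib.BlowUpReg6.Main
import Groth.Agent.Lib.RegLoc.GlobalDim
import Groth.Prelude.Def_ModelsG
import Mathlib

/-!
# Blowing up a regular point of dimension two: global properties
-/

set_option autoImplicit false
set_option linter.style.haveILetI false
set_option linter.unusedSectionVars false
set_option backward.isDefEq.respectTransparency false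
set_option maxHeartbeats 1000000

universe u

open CategoryTheory CategoryTheory.Limits AlgebraicGeometry TopologicalSpace

noncomputable section

namespace Groth.Agent.PointBlowUp

theorem coe_support_ptIdeal {Y : Scheme.{u}} {y : Y} (hy : IsClosed ({y} : Set Y)) :
    ((ptIdeal hy).support : Set Y) = {y} := by
  rw [Scheme.IdealSheafData.coe_support_vanishingIdeal]
  rfl

variable {X Y : Scheme.{u}} {y : Y} (hy : IsClosed ({y} : Set Y)) (f : X ⟶ Y)

theorem mem_support_exceptional (x : X) :
    x ∈ (BlowUp.exceptional f (ptIdeal hy)).support ↔ f x = y := by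
  rw [BlowUp.exceptional, Scheme.IdealSheafData.support_comap]
  show f x ∈ ((ptIdeal hy).support : Set Y) ↔ _
  rw [coe_support_ptIdeal hy]
  rfl

theorem range_exceptional :
    Set.range (BlowUp.exceptional f (ptIdeal hy)).subschemeι = f ⁻¹' {y} := by
  rw [Scheme.IdealSheafData.range_subschemeι]
  ext x
  exact mem_support_exceptional hy f x

variable {f} (hf : BlowUp.IsBlowUp f (ptIdeal hy))
include hf

theorem isProper [IsLocallyNoetherian Y] : IsProper f :=
  BlowUpExist.isProper (BlowUpReg6.isFiniteTypeIdeal _) hf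

theorem isIso_restrict : IsIso (f ∣_ (⟨{y}ᶜ, hy.isOpen_compl⟩ : Y.Opens)) := by
  have h : EffCartier.cmpl (ptIdeal hy) = (⟨{y}ᶜ, hy.isOpen_compl⟩ : Y.Opens) := by
    refine Opens.ext ?_
    show ((ptIdeal hy).support : Set Y)ᶜ = {y}ᶜ
    rw [coe_support_ptIdeal hy]
  rw [← h]
  exact EffCartier.isIso_blowUp_restrict hf

theorem eq_of_ne {a b : X} (ha : f a ≠ y) (h : f a = f b) : a = b := by
  haveI := isIso_restrict hy hf
  exact eq_of_restrict f (⟨{y}ᶜ, hy.isOpen_compl⟩ : Y.Opens) ha h

theorem exists_generization_out (x : X) : ∃ b, b ⤳ x ∧ f b ≠ y := by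
  obtain ⟨b, hb, hbx⟩ := EffCartier.exists_specializes_cmpl hf.1 x
  exact ⟨b, hbx, fun h => hb ((mem_support_exceptional hy f b).2 h)⟩

omit hf in
/-- A chain of two specializations gives Krull dimension at least two. -/
theorem two_le_ringKrullDim_stalk {Z : Scheme.{u}} {a b c : Z} (hab : a ⤳ b) (hbc : b ⤳ c) (nab : a ≠ b)
    (nbc : b ≠ c) : 2 ≤ ringKrullDim (Z.presheaf.stalk c) := by
  have lift : ∀ w, w ⤳ c → ∃ P : PrimeSpectrum (Z.presheaf.stalk c), Z.fromSpecStalk c P = w := fun w hw => by
    have : w ∈ Set.range (Z.fromSpecStalk c) := by rw [Scheme.range_fromSpecStalk]; exact hw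
    exact this
  obtain ⟨A, hA⟩ := lift a (hab.trans hbc)
  obtain ⟨B, hB⟩ := lift b hbc
  obtain ⟨C, hC⟩ := lift c specializes_rfl
  have hlt : ∀ {P Q : PrimeSpectrum (Z.presheaf.stalk c)}, Z.fromSpecStalk c P ⤳ Z.fromSpecStalk c Q →
      Z.fromSpecStalk c P ≠ Z.fromSpecStalk c Q → P < Q := fun {P Q} h hne => by
    refine lt_of_le_of_ne ((PrimeSpectrum.le_iff_specializes P Q).2
      ((Z.fromSpecStalk c).isEmbedding.isInducing.specializes_iff.1 h)) fun e => hne (e ▸ rfl)
  have hAB : A < B := hlt (by rw [hA, hB]; exact hab) (by rw [hA, hB]; exact nab)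
  have hBC : B < C := hlt (by rw [hB, hC]; exact hbc) (by rw [hB, hC]; exact nbc)
  let s : LTSeries (PrimeSpectrum (Z.presheaf.stalk c)) :=
    { length := 2
      toFun := ![A, B, C]
      step := fun i => by
        fin_cases i
        · exact hAB
        · exact hBC }
  exact Order.LTSeries.length_le_krullDim s

omit hf in
theorem P1_points (k : Type u) [Field k] : ∃ g : CohB1.ProjSpace 1 k, ¬ IsClosed ({g} : Set (CohB1.ProjSpace 1 k)) ∧
    ∀ z, g ⤳ z ∧ (z = g ∨ IsClosed ({z} : Set (CohB1.ProjSpace 1 k))) := by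
  haveI := Groth.Agent.RegExt.isIntegral_projSpace 1 k
  let P := CohB1.ProjSpace 1 k
  refine ⟨genericPoint P, fun h => ?_, fun z => ⟨genericPoint_specializes z, ?_⟩⟩
  · haveI : Subsingleton P := ⟨fun a b => by
      have h1 := ((genericPoint_specializes a).mem_closed h rfl : a = genericPoint P)
      have h2 := ((genericPoint_specializes b).mem_closed h rfl : b = genericPoint P)
      rw [h1, h2]⟩
    have h2 : topologicalKrullDim P ≤ 0 := by
      haveI : Subsingleton (TopologicalSpace.IrreducibleCloseds P) := ⟨fun A B =>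
        TopologicalSpace.IrreducibleCloseds.ext (by
          obtain ⟨a, ha⟩ := A.isIrreducible'.nonempty
          obtain ⟨b, hb⟩ := B.isIrreducible'.nonempty
          ext w
          exact ⟨fun _ => Subsingleton.elim b w ▸ hb, fun _ => Subsingleton.elim a w ▸ ha⟩)⟩
      exact Order.krullDim_nonpos_of_subsingleton
    rw [Groth.Agent.S10829.result k 1] at h2
    exact absurd h2 (by decide)
  · by_contra hh
    push Not at hh
    obtain ⟨c, hc, hcz⟩ : ∃ c, c ∈ closure ({z} : Set P) ∧ c ≠ z := by
      by_contra h'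
      push Not at h'
      exact hh.2 (closure_eq_iff_isClosed.1 (Set.Subset.antisymm (fun c hc => h' c hc) subset_closure))
    have hlt : ∀ {p q : P}, p ⤳ q → p ≠ q →
        (⟨closure {q}, isIrreducible_singleton.closure, isClosed_closure⟩ : IrreducibleCloseds P) <
          ⟨closure {p}, isIrreducible_singleton.closure, isClosed_closure⟩ := fun {p q} hpq hne => by
      refine lt_of_le_of_ne (specializes_iff_closure_subset.mp hpq) fun he => hne ?_
      exact (hpq.antisymm (specializes_iff_closure_subset.mpr
        (congrArg (fun Z : IrreducibleCloseds P => (Z : Set P)) he).ge)).eq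
    let s : LTSeries (IrreducibleCloseds P) :=
      { length := 2
        toFun := ![⟨closure {c}, isIrreducible_singleton.closure, isClosed_closure⟩,
          ⟨closure {z}, isIrreducible_singleton.closure, isClosed_closure⟩,
          ⟨closure {genericPoint P}, isIrreducible_singleton.closure, isClosed_closure⟩]
        step := fun i => by
          fin_cases i
          · exact hlt (specializes_iff_mem_closure.2 hc) hcz.symm
          · exact hlt (genericPoint_specializes z) (Ne.symm hh.1) }
    have h1 : ((2 : ℕ) : WithBot ℕ∞) ≤ topologicalKrullDim P := Order.LTSeries.length_le_krullDim s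
    rw [Groth.Agent.S10829.result k 1] at h1
    exact absurd h1 (by decide)

section Point

variable [IsRegularLocalRing (Y.presheaf.stalk y)] (hdim : ringKrullDim (Y.presheaf.stalk y) = 2)
include hdim

/-- The generic point of the exceptional curve. -/
theorem exists_eta : ∃ η : X, f η = y ∧ ¬ IsClosed ({η} : Set X) ∧
    ∀ x, f x = y → η ⤳ x ∧ (x = η ∨ IsClosed ({x} : Set X)) := by
  obtain ⟨e, -, -⟩ := exceptional_point hy hdim f hf
  obtain ⟨g, hg, hpts⟩ := P1_points (Y.residueField y)
  let j := e.hom ≫ (BlowUp.exceptional f (ptIdeal hy)).subschemeι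
  have hrange : ∀ x, f x = y → ∃ z, j z = x := fun x hx => by
    have : x ∈ Set.range (BlowUp.exceptional f (ptIdeal hy)).subschemeι := by
      rw [range_exceptional hy f]; exact hx
    obtain ⟨w, hw⟩ := this
    refine ⟨e.inv w, ?_⟩
    rw [← hw, ← Scheme.Hom.comp_apply, e.inv_hom_id_assoc]
  have hjy : ∀ z, f (j z) = y := fun z => by
    have : (BlowUp.exceptional f (ptIdeal hy)).subschemeι (e.hom z) ∈ f ⁻¹' {y} := by
      rw [← range_exceptional hy f]; exact ⟨_, rfl⟩
    exact this
  refine ⟨j g, hjy g, fun h => hg ?_, fun x hx => ?_⟩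
  · have := h.preimage j.continuous
    rwa [← Set.image_singleton, Set.preimage_image_eq _ j.isClosedEmbedding.injective] at this
  · obtain ⟨z, rfl⟩ := hrange x hx
    refine ⟨(hpts z).1.map j.continuous, (hpts z).2.imp (fun h => by rw [h]) fun h => ?_⟩
    rw [← Set.image_singleton]
    exact j.isClosedEmbedding.isClosedMap _ h

/-- The exceptional curve has codimension one. -/
theorem ringKrullDim_eta_le [IsLocallyNoetherian X] {η : X} (hη : f η = y)
    (hgen : ∀ x, f x = y → η ⤳ x) : ringKrullDim (X.presheaf.stalk η) ≤ 1 := by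
  let E := BlowUp.exceptional f (ptIdeal hy)
  obtain ⟨U, hU, t, -, ht⟩ := hf.1 η
  let I : Ideal (X.presheaf.stalk η) := Ideal.span {(X.presheaf.germ U.1 η hU).hom t}
  haveI : I.IsPrincipal := ⟨⟨_, rfl⟩⟩
  have hI : IsLocalRing.maximalIdeal (X.presheaf.stalk η) ∈ I.minimalPrimes := by
    obtain ⟨e, -, -⟩ := exceptional_point hy hdim f hf
    haveI := Groth.Agent.RegExt.isIntegral_projSpace 1 (Y.residueField y)
    haveI : Nonempty E.subscheme := ⟨e.hom (genericPoint _)⟩
    haveI : IsIntegral E.subscheme := isIntegral_of_isOpenImmersion e.inv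
    obtain ⟨d, hd⟩ : η ∈ Set.range E.subschemeι := by rw [range_exceptional hy f]; exact hη
    subst hd
    have hdgen : d = genericPoint E.subscheme := by
      have h1 : E.subschemeι d ⤳ E.subschemeι (genericPoint E.subscheme) := hgen _ ((mem_support_exceptional hy f _).1
        (by rw [← SetLike.mem_coe, ← Scheme.IdealSheafData.range_subschemeι]; exact ⟨_, rfl⟩))
      exact ((E.subschemeι.isEmbedding.isInducing.specializes_iff.1 h1).antisymm (genericPoint_specializes d)).eq
    have hk := FormalH7.ker_stalkMap_subscheme E U d hU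
    rw [show E.ideal U = Ideal.span {t} from ht, Ideal.map_span, Set.image_singleton] at hk
    have hfield : IsField (E.subscheme.presheaf.stalk d) := by
      rw [hdgen]; exact Field.toIsField E.subscheme.functionField
    letI := hfield.toField
    have hmax : I.IsMaximal := by
      rw [show I = _ from hk.symm]
      exact RingHom.ker_isMaximal_of_surjective _ (E.subschemeι.stalkMap_surjective d)
    haveI := hmax.isPrime
    rw [Ideal.minimalPrimes_eq_subsingleton_self, Set.mem_singleton_iff]
    exact (IsLocalRing.eq_maximalIdeal hmax).symm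
  have h := Ideal.height_le_one_of_isPrincipal_of_mem_minimalPrimes_of_isLocalRing I hI
  rw [← IsLocalRing.maximalIdeal_height_eq_ringKrullDim]
  exact_mod_cast h

/-- Blowing up does not make the dimension grow. -/
theorem noChain [IsLocallyNoetherian Y] (hY : RelMin.NoChain Y) : RelMin.NoChain X := by
  haveI := isProper hy hf
  haveI : IsLocallyNoetherian X := LocallyOfFiniteType.isLocallyNoetherian f
  obtain ⟨η, hη, -, hpts⟩ := exists_eta hy hf hdim
  have himg : ∀ {p q : X}, p ⤳ q → p ≠ q → f p ≠ y → f p ⤳ f q ∧ f p ≠ f q :=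
    fun h hne hp => ⟨h.map f.continuous, fun e => hne (eq_of_ne hy hf hp e)⟩
  have hdown : ∀ {p q : X}, p ⤳ q → f p = y → f q = y := fun h hp =>
    ((h.map f.continuous).mem_closed hy hp : f _ = y)
  have h2 : ∀ {p q r : X}, f p = y → p ⤳ q → q ⤳ r → p ≠ q → q ≠ r → False := fun {p q r} hp hpq hqr npq nqr => by
    rcases (hpts q (hdown hpq hp)).2 with rfl | hc
    · exact npq (hpq.antisymm (hpts p hp).1).eq
    · exact nqr (hqr.mem_closed hc rfl : r = q).symm
  intro a b c d hab hbc hcd nab nbc ncd
  by_cases ha : f a = y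
  · exact h2 ha hab hbc nab nbc
  by_cases hb : f b = y
  · exact h2 hb hbc hcd nbc ncd
  obtain ⟨h1, n1⟩ := himg hab nab ha
  obtain ⟨h2', n2⟩ := himg hbc nbc hb
  by_cases hc : f c = y
  · rcases (hpts c hc).2 with rfl | hc'
    · have := (two_le_ringKrullDim_stalk hab hbc nab nbc).trans (ringKrullDim_eta_le hy hf hdim hc (fun x hx => (hpts x hx).1))
      exact absurd this (by decide)
    · exact ncd (hcd.mem_closed hc' rfl : d = c).symm
  · obtain ⟨h3, n3⟩ := himg hcd ncd hc
    exact hY _ _ _ _ h1 h2' h3 n1 n2 n3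

theorem isContractionOf [IsNoetherian Y] :
    Models.IsContractionOf (BlowUp.exceptional f (ptIdeal hy)).subschemeι f := by
  obtain ⟨η, hη, -, -⟩ := exists_eta hy hf hdim
  refine ⟨inferInstance, isProper hy hf, y, hy, ?_, inferInstance, hdim, hf⟩
  rw [Scheme.Hom.comp_base, TopCat.coe_comp, Set.range_comp]
  show f '' Set.range (BlowUp.exceptional f (ptIdeal hy)).subschemeι = {y}
  rw [range_exceptional hy f]
  exact Set.Subset.antisymm (Set.image_preimage_subset _ _) (Set.singleton_subset_iff.2 ⟨η, hη, hη⟩)

theorem isContractionSeq [IsNoetherian Y] : Models.IsContractionSeq f := by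
  have h := Models.IsContractionSeq.step (BlowUp.exceptional f (ptIdeal hy)).subschemeι f (Iso.refl Y).hom
    inferInstance (isExcCurve_exceptional hy hdim f hf) (isContractionOf hy hf hdim) (.iso (Iso.refl Y))
  rwa [Iso.refl_hom, Category.comp_id] at h

end Point

end Groth.Agent.PointBlowUp
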