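import Groth.Agent.Lib.PointBlowUp32.Embed
import Groth.Prelude.Def_Coh
import Groth.Prelude.Def_Curv2
import Mathlib

/-!
# Stalks of the blowing up in two generators
-/

set_option autoImplicit false
set_option linter.style.haveILetI false
set_option linter.unusedSectionVars false
set_option backward.isDefEq.respectTransparency false
set_option backward.isDefEq.respectTransparency.types false
set_option maxHeartbeats 1000000

universe u

open CategoryTheory CategoryTheory.Limits AlgebraicGeometry TopologicalSpace Opposite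

noncomputable section

namespace Groth.Agent.PointBlowUp

open Groth.Agent.BlowUpExist Groth.Agent.BlowUpExist.ChartIdx

variable {A : Type u} [CommRing A] (a : Fin 2 → A) {C : (Spec (CommRingCat.of A)).IdealSheafData}
  (hC : C.ideal ⟨⊤, isAffineOpen_top _⟩ = Ideal.span (Set.range (gsec a)))
  {X : Scheme.{u}} {b : X ⟶ Spec (CommRingCat.of A)} (hb : BlowUp.IsBlowUp b C)

/-- The structure map to the stalks. -/
abbrev stHom (b : X ⟶ Spec (CommRingCat.of A)) (x : X) : A →+* X.presheaf.stalk x :=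
  (X.presheaf.germ ⊤ x trivial).hom.comp
    (b.appTop.hom.comp (Scheme.ΓSpecIso (CommRingCat.of A)).inv.hom)

include hC hb

/-- A chart is generated by the quotient of the two generators. -/
theorem chart_generated (k : Fin 2) : ∃ t : Γ(X, (cidx a hC k).locus b),
    fres a b ((cidx a hC k).locus b) k * t = fres a b ((cidx a hC k).locus b) (1 - k) ∧
    ∀ z : Γ(X, (cidx a hC k).locus b), ∃ p : Polynomial A,
      z = p.eval₂ ((X.presheaf.map (homOfLE (le_top : (cidx a hC k).locus b ≤ ⊤)).op).hom.comp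
        (b.appTop.hom.comp (Scheme.ΓSpecIso (CommRingCat.of A)).inv.hom)) t := by
  classical
  let ci := cidx a hC k
  let G := ci.locus b
  let ρ : A →+* Γ(X, G) := (X.presheaf.map (homOfLE (le_top : G ≤ ⊤)).op).hom.comp
    (b.appTop.hom.comp (Scheme.ΓSpecIso (CommRingCat.of A)).inv.hom)
  have hρ : ∀ i, ρ (a i) = fres a b G i := fun i => rfl
  obtain ⟨t, ht⟩ : ∃ t, fres a b G k * t = fres a b G (1 - k) := by
    have h : fres a b G (1 - k) ∈ (C.comap b).ideal ⟨G, isAffineOpen_locus hb _⟩ := by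
      rw [ideal_eq a hC]; exact Ideal.subset_span ⟨_, rfl⟩
    rw [ideal_locus a hC hb k] at h
    obtain ⟨t, ht⟩ := Ideal.mem_span_singleton'.1 h
    exact ⟨t, by rw [mul_comm]; exact ht⟩
  refine ⟨t, ht, ?_⟩
  let P : Subring Γ(X, G) := (Polynomial.eval₂RingHom ρ t).range
  suffices hP : ∀ z, z ∈ P by
    intro z
    obtain ⟨p, hp⟩ := hP z
    exact ⟨p, hp.symm⟩
  have hbase : ∀ c : A, ρ c ∈ P := fun c => ⟨Polynomial.C c, by simp⟩
  have htP : t ∈ P := ⟨Polynomial.X, by simp⟩
  haveI : IsAffine ci.U.1.toScheme := ci.U.2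
  obtain ⟨φ, hφ, hφa⟩ := S2894.exists_bijective_locus hb ci
  intro z
  obtain ⟨⟨z, hz⟩, rfl⟩ := hφ.2 z
  have hψa : ∀ c : Γ(Spec (CommRingCat.of A), ⊤),
      φ (algebraMap _ _ (ci.U.1.topIso.inv c)) = b.appLE ⊤ G (fun _ _ => trivial) c := fun c => by
    rw [hφa, Iso.inv_hom_id_apply]
  have hap : ∀ c : A, b.appLE ⊤ G (fun _ _ => trivial) ((Scheme.ΓSpecIso (CommRingCat.of A)).inv c) = ρ c := fun c => rfl
  have halg : ∀ x : Γ(ci.U.1.toScheme, ⊤), ∃ c : A, φ (algebraMap _ _ x) = ρ c := fun x => by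
    refine ⟨(Scheme.ΓSpecIso (CommRingCat.of A)).hom (ci.U.1.topIso.hom x), ?_⟩
    rw [← hap, Iso.hom_inv_id_apply, ← hψa, Iso.hom_inv_id_apply]
  have hk : fres a b G k ∈ nonZeroDivisors Γ(X, G) := fres_mem_nzd a hC hb k
  induction hz using Algebra.adjoin_induction with
  | mem x hx =>
    obtain ⟨y, hy, rfl⟩ := hx
    have hy' : ci.U.1.topIso.hom y ∈ Ideal.span (Set.range (gsec a)) := by
      rw [BlowUpExist.ChartIdx.J_ideal_top] at hy
      rw [show ((C ^ (ci.n + 1)).ideal ci.U) = C.ideal ⟨⊤, isAffineOpen_top _⟩ from by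
        rw [show ci.n + 1 = 1 from rfl, pow_one], hC] at hy
      have h2 := Ideal.mem_map_of_mem ci.U.1.topIso.hom.hom hy
      rw [Ideal.map_map] at h2
      rwa [show ci.U.1.topIso.hom.hom.comp ci.U.1.topIso.inv.hom = RingHom.id _ from
        RingHom.ext fun w => Iso.inv_hom_id_apply ci.U.1.topIso w, Ideal.map_id] at h2
    obtain ⟨w, hw⟩ := Ideal.mem_span_range_iff_exists_fun.1 hy'
    let q : Fin 2 → Γ(X, G) := fun i => if i = k then 1 else t
    have hq : ∀ i, q i * fres a b G k = fres a b G i := fun i => by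
      by_cases h : i = k
      · simp [q, h]
      · have hi : i = 1 - k := by revert h; fin_cases i <;> fin_cases k <;> simp
        simp only [q, if_neg h]
        rw [mul_comm, hi]
        exact ht
    have hkey : φ ⟨_, Algebra.subset_adjoin ⟨y, hy, rfl⟩⟩ * fres a b G k =
        (∑ i, b.appLE ⊤ G (fun _ _ => trivial) (w i) * q i) * fres a b G k := by
      rw [Finset.sum_mul]
      have e1 : fres a b G k = φ (algebraMap _ _ ci.sec) := (hψa _).symm
      conv_lhs => rw [e1, ← map_mul]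
      rw [show (⟨_, Algebra.subset_adjoin ⟨y, hy, rfl⟩⟩ : BlowUp.affineAlgebra _ (ci.J.ideal ⟨⊤, isAffineOpen_top _⟩) ci.sec) *
        algebraMap _ _ ci.sec = algebraMap _ _ y from Subtype.ext (IsLocalization.mk'_spec _ y _),
        ← Iso.hom_inv_id_apply ci.U.1.topIso y, hψa, ← hw, map_sum]
      refine Finset.sum_congr rfl fun i _ => ?_
      rw [map_mul, mul_assoc, hq]
      rfl
    rw [(mul_cancel_right_mem_nonZeroDivisors hk).1 hkey]
    refine sum_mem fun i _ => mul_mem ?_ ?_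
    · obtain ⟨c, hc⟩ := (ConcreteCategory.bijective_of_isIso (Scheme.ΓSpecIso (CommRingCat.of A)).inv).2 (w i)
      rw [← hc, hap]
      exact hbase c
    · by_cases h : i = k
      · simp only [q, if_pos h]; exact one_mem _
      · simp only [q, if_neg h]; exact htP
  | algebraMap x =>
    obtain ⟨c, hc⟩ := halg x
    exact hc ▸ hbase c
  | add x y hx' hy' hx hy =>
    exact (map_add φ ⟨x, hx'⟩ ⟨y, hy'⟩) ▸ add_mem hx hy
  | mul x y hx' hy' hx hy =>
    exact (map_mul φ ⟨x, hx'⟩ ⟨y, hy'⟩) ▸ mul_mem hx hy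

/-- The stalks of the blowing up. -/
theorem stalk_data (x : X) : ∃ (k : Fin 2) (t : X.presheaf.stalk x),
    stHom b x (a k) * t = stHom b x (a (1 - k)) ∧ stHom b x (a k) ∈ nonZeroDivisors (X.presheaf.stalk x) ∧
    ∀ z : X.presheaf.stalk x, ∃ p s : Polynomial A,
      IsUnit (s.eval₂ (stHom b x) t) ∧ z * s.eval₂ (stHom b x) t = p.eval₂ (stHom b x) t := by
  obtain ⟨k, hk⟩ := exists_mem_locus a hC hb x
  let G := (cidx a hC k).locus b
  obtain ⟨t, ht, hgen⟩ := chart_generated a hC hb k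
  let ρ : A →+* Γ(X, G) := (X.presheaf.map (homOfLE (le_top : G ≤ ⊤)).op).hom.comp
    (b.appTop.hom.comp (Scheme.ΓSpecIso (CommRingCat.of A)).inv.hom)
  let ge := (X.presheaf.germ G x hk).hom
  have hcomp : ge.comp ρ = stHom b x := RingHom.ext fun c => X.presheaf.germ_res_apply _ _ _ _
  have hev : ∀ p : Polynomial A, ge (p.eval₂ ρ t) = p.eval₂ (stHom b x) (ge t) := fun p => by
    rw [Polynomial.hom_eval₂, hcomp]
  have hρk : ∀ i, ge (fres a b G i) = stHom b x (a i) := fun i => RingHom.congr_fun hcomp (a i)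
  letI := TopCat.Presheaf.algebra_section_stalk X.presheaf (⟨x, hk⟩ : G)
  have hGa : IsAffineOpen G := isAffineOpen_locus hb _
  haveI := hGa.isLocalization_stalk ⟨x, hk⟩
  refine ⟨k, ge t, ?_, ?_, fun z => ?_⟩
  · rw [← hρk, ← hρk, ← map_mul, ht]
  · rw [← hρk]
    exact IsLocalization.map_nonZeroDivisors_le (hGa.primeIdealOf ⟨x, hk⟩).asIdeal.primeCompl
      (X.presheaf.stalk x) ⟨_, fres_mem_nzd a hC hb k, rfl⟩
  · obtain ⟨⟨r, s⟩, hrs⟩ := IsLocalization.surj (hGa.primeIdealOf ⟨x, hk⟩).asIdeal.primeCompl z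
    obtain ⟨p, hp⟩ := hgen r
    obtain ⟨q, hq⟩ := hgen (s : Γ(X, G))
    refine ⟨p, q, ?_, ?_⟩
    · rw [← hev, ← hq]
      exact IsLocalization.map_units (X.presheaf.stalk x) s
    · rw [← hev, ← hev, ← hq, ← hp]
      exact hrs

end Groth.Agent.PointBlowUp
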