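import Groth.Agent.Lib.PointBlowUp32.Seq
import Groth.Agent.Lib.FEtEq25.DepthTwo
import Groth.Agent.Lib.RamSam27.Normal
import Groth.Agent.Lib.StableBlowUp3.Finite
import Groth.Agent.Lib.RigidRel.Collapse
import Mathlib

/-!
# The universal property of the contraction of an exceptional curve
-/

set_option autoImplicit false
set_option linter.style.haveILetI false
set_option linter.unusedSectionVars false
set_option backward.isDefEq.respectTransparency false
set_option maxHeartbeats 1000000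

universe u

open CategoryTheory CategoryTheory.Limits AlgebraicGeometry TopologicalSpace

noncomputable section

namespace Groth.Agent.PointBlowUp

variable {X Y : Scheme.{u}} [IsLocallyNoetherian Y] (b : X ⟶ Y) {y : Y} (hy : IsClosed ({y} : Set Y))
  (hb : BlowUp.IsBlowUp b (ptIdeal hy)) [IsRegularLocalRing (Y.presheaf.stalk y)]
  (hdim : ringKrullDim (Y.presheaf.stalk y) = 2)

include hb hdim

/-- The structure sheaf pushes forward to the structure sheaf. -/
theorem bijective_app (V : Y.Opens) : Function.Bijective (b.app V) := by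
  let U : Y.Opens := ⟨{y}ᶜ, hy.isOpen_compl⟩
  haveI : IsIso (b ∣_ U) := isIso_restrict hy hb
  have hres : Function.Bijective (Y.presheaf.map (homOfLE (inf_le_left : V ⊓ U ≤ V)).op) :=
    FEtEq25.bijective_restrict U (fun z hz => by
      obtain rfl : z = y := not_not.1 hz
      exact RamSam27.two_le_depth_of_regular hdim.ge) V
  have happ := StableBlowUp3.bijective_app_of_le b (inf_le_right : V ⊓ U ≤ U)
  have hcm : EffCartier.cmpl ((ptIdeal hy).comap b) = b ⁻¹ᵁ U := by
    refine Opens.ext (Set.ext fun x => ?_)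
    show x ∉ ((ptIdeal hy).comap b).support ↔ b x ≠ y
    rw [mem_support_exceptional hy b x]
  haveI := EffCartier.quasiCompact_interior hb.1
  haveI := EffCartier.dominant_cmpl hb.1
  have hinj : Function.Injective (X.presheaf.map (homOfLE (inf_le_left : b ⁻¹ᵁ V ⊓ b ⁻¹ᵁ U ≤ b ⁻¹ᵁ V)).op) := by
    intro s t hst
    apply (EffCartier.cmpl ((ptIdeal hy).comap b)).ι.app_injective (b ⁻¹ᵁ V)
    rw [Scheme.Opens.ι_app]
    have hle : (EffCartier.cmpl ((ptIdeal hy).comap b)).ι ''ᵁ ((EffCartier.cmpl ((ptIdeal hy).comap b)).ι ⁻¹ᵁ (b ⁻¹ᵁ V)) ≤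
        b ⁻¹ᵁ V ⊓ b ⁻¹ᵁ U := by
      rw [Scheme.Hom.image_preimage_eq_opensRange_inf, Scheme.Opens.opensRange_ι, hcm, inf_comm]
    rw [Subsingleton.elim (homOfLE _) (homOfLE hle ≫ homOfLE inf_le_left), op_comp, Functor.map_comp]
    exact congrArg (fun r => X.presheaf.map (homOfLE hle).op r) hst
  have key : ∀ r, X.presheaf.map (homOfLE (inf_le_left : b ⁻¹ᵁ V ⊓ b ⁻¹ᵁ U ≤ b ⁻¹ᵁ V)).op (b.app V r) =
      b.app (V ⊓ U) (Y.presheaf.map (homOfLE (inf_le_left : V ⊓ U ≤ V)).op r) := fun r =>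
    (ConcreteCategory.congr_hom (b.naturality (homOfLE (inf_le_left : V ⊓ U ≤ V)).op) r).symm
  refine ⟨fun r s h => hres.1 (happ.1 ?_), fun t => ?_⟩
  · rw [← key, ← key, h]
  · obtain ⟨r, hr⟩ := hres.2 ((happ.2 (X.presheaf.map (homOfLE (inf_le_left : b ⁻¹ᵁ V ⊓ b ⁻¹ᵁ U ≤ b ⁻¹ᵁ V)).op t)).choose)
    refine ⟨r, hinj ?_⟩
    rw [key, hr]
    exact (happ.2 _).choose_spec

/-- A morphism collapsing the exceptional curve factors through the contraction. -/
theorem existsUnique_factor [IsProper b] {Z : Scheme.{u}} (φ : X ⟶ Z) (z : Z) (hφ : ∀ x, b x = y → φ x = z) :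
    ∃! ψ : Y ⟶ Z, b ≫ ψ = φ := by
  have h0 : ∀ W : Y.Opens, IsAffineOpen W → Function.Bijective (b.app W).hom := fun W _ => bijective_app b hy hb hdim W
  haveI : Surjective b := RigidRel.surjective_of_h0 b h0
  have hall : ∀ t : Y, t ∈ RigidRel.collapsed b φ := fun t => by
    obtain ⟨w, hw⟩ := b.surjective t
    by_cases ht : t = y
    · exact ⟨z, fun x hx => hφ x (hx.trans ht)⟩
    · exact ⟨φ w, fun x hx => congrArg φ (eq_of_ne hy hb (fun h => ht (hx.symm.trans h)) (hx.trans hw.symm))⟩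
  obtain ⟨r, hr⟩ := RigidRel.exists_factor b h0 φ
  have htop : (⊤ : Y.Opens) ≤ RigidRel.collapsedOpen b h0 φ := fun t _ => hall t
  let e : Y ⟶ (RigidRel.collapsedOpen b h0 φ).toScheme := Y.topIso.inv ≫ Y.homOfLE htop
  have he : e ≫ (RigidRel.collapsedOpen b h0 φ).ι = 𝟙 Y := by
    rw [Category.assoc, Scheme.homOfLE_ι, ← Scheme.topIso_hom, Iso.inv_hom_id]
  have hmem : Set.range (𝟙 X : X ⟶ X) ⊆ Set.range (b ⁻¹ᵁ RigidRel.collapsedOpen b h0 φ).ι := by
    rw [Scheme.Opens.range_ι]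
    exact fun x _ => hall _
  let l : X ⟶ (b ⁻¹ᵁ RigidRel.collapsedOpen b h0 φ).toScheme := IsOpenImmersion.lift _ (𝟙 X) hmem
  have hl : l ≫ (b ⁻¹ᵁ RigidRel.collapsedOpen b h0 φ).ι = 𝟙 X := IsOpenImmersion.lift_fac _ _ _
  have hle : l ≫ (b ∣_ RigidRel.collapsedOpen b h0 φ) = b ≫ e := by
    rw [← cancel_mono (RigidRel.collapsedOpen b h0 φ).ι, Category.assoc, morphismRestrict_ι, reassoc_of% hl,
      Category.assoc, he, Category.comp_id]
  refine ⟨e ≫ r, ?_, fun ψ hψ => ?_⟩
  · show b ≫ e ≫ r = φ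
    rw [← Category.assoc, ← hle, Category.assoc, hr, ← Category.assoc, hl, Category.id_comp]
  · refine RigidRel.cancel_of_injective_app b (fun W hW => (h0 W hW).1) ψ (e ≫ r) ?_
    rw [hψ, ← Category.assoc, ← hle, Category.assoc, hr, ← Category.assoc, hl, Category.id_comp]

/-- A contracted projective line fills the exceptional fibre. -/
theorem mem_range_of_over [IsProper b] {E : Scheme.{u}} (ι : E ⟶ X) [IsClosedImmersion ι] (hE : Models.IsExcCurve ι)
    (hι : ∀ w, b (ι w) = y) {x : X} (hx : b x = y) : x ∈ Set.range ι := by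
  obtain ⟨-, k, _, e, -⟩ := hE
  obtain ⟨g, hg, -⟩ := P1_points k
  obtain ⟨η, hη, -, hpts⟩ := exists_eta hy hb hdim
  let j := e.hom ≫ ι
  have hjg : ¬ IsClosed ({j g} : Set X) := fun h => hg (by
    have := h.preimage j.continuous
    rwa [← Set.image_singleton, Set.preimage_image_eq _ j.isClosedEmbedding.injective] at this)
  have he : j g = η := (hpts (j g) (hι (e.hom g))).2.resolve_right hjg
  exact ((hpts x hx).1).mem_closed ι.isClosedEmbedding.isClosed_range (he ▸ ⟨e.hom g, rfl⟩)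

end Groth.Agent.PointBlowUp

namespace Groth.Agent.PointBlowUp

/-- The universal property of a contraction. -/
theorem contraction_universal {E X X' Z : Scheme.{u}} (ι : E ⟶ X) [IsClosedImmersion ι]
    (hE : Models.IsExcCurve ι) (b : X ⟶ X') (hb : Models.IsContractionOf ι b)
    (φ : X ⟶ Z) (z : Z) (hφ : ∀ w, φ (ι w) = z) : ∃! ψ : X' ⟶ Z, b ≫ ψ = φ := by
  obtain ⟨hN, hp, y, hy, hr, hreg, hdim, hbl⟩ := hb
  haveI := hN
  haveI := hp
  haveI := hreg
  have hι : ∀ w, b (ι w) = y := fun w => by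
    have : (ι ≫ b) w ∈ Set.range ((ι ≫ b).base : E → X') := ⟨w, rfl⟩
    rw [hr] at this
    exact this
  refine existsUnique_factor b hy hbl hdim φ z fun x hx => ?_
  obtain ⟨w, rfl⟩ := mem_range_of_over b hy hbl hdim ι hE hι hx
  exact hφ w

end Groth.Agent.PointBlowUp
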