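import Groth.Agent.Lib.PointBlowUp32.Seq
import Groth.Agent.Lib.RelMin32.Birat
import Mathlib

/-!
# Proper birational morphisms of regular surfaces are composites of point blowups
-/

set_option autoImplicit false
set_option linter.style.haveILetI false
set_option linter.unusedSectionVars false
set_option backward.isDefEq.respectTransparency false
set_option maxHeartbeats 1000000

universe u

open CategoryTheory CategoryTheory.Limits AlgebraicGeometry TopologicalSpace

noncomputable section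

namespace Groth.Agent.PointBlowUp

theorem isIso_restrict_le {X Y : Scheme.{u}} (f : X ⟶ Y) (U V : Y.Opens) (h : V ≤ U) [IsIso (f ∣_ U)] :
    IsIso (f ∣_ V) := by
  have h1 : IsIso (f ∣_ U ∣_ U.ι ⁻¹ᵁ V) := inferInstance
  have e : U.ι ''ᵁ (U.ι ⁻¹ᵁ V) = V := by
    ext w
    constructor
    · rintro ⟨v, hv, rfl⟩
      exact hv
    · intro hw
      exact ⟨⟨w, h hw⟩, hw, rfl⟩
  exact ((MorphismProperty.isomorphisms Scheme.{u}).arrow_mk_iso_iff
    (morphismRestrictRestrict f U (U.ι ⁻¹ᵁ V) ≪≫ morphismRestrictEq f e)).1 h1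

/-- Composing a contraction sequence with a point blowup. -/
theorem seq_comp {X Z : Scheme.{u}} {g : X ⟶ Z} (hg : Models.IsContractionSeq g) :
    ∀ {Y : Scheme.{u}} [IsNoetherian Y] (π : Z ⟶ Y) {y : Y} (hy : IsClosed ({y} : Set Y))
      [IsRegularLocalRing (Y.presheaf.stalk y)], ringKrullDim (Y.presheaf.stalk y) = 2 →
      BlowUp.IsBlowUp π (ptIdeal hy) → Models.IsContractionSeq (g ≫ π) := by
  induction hg with
  | iso e =>
    intro W _ π y hy _ hdim hπ
    refine isContractionSeq (f := e.hom ≫ π) hy ⟨?_, fun T t ht => ?_⟩ hdim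
    · rw [Scheme.IdealSheafData.comap_comp]
      exact BlowUpExist.isEffCartierIdeal_comap_of_isOpenImmersion hπ.1 e.hom
    · obtain ⟨h, hh, huniq⟩ := hπ.2 T t ht
      refine ⟨h ≫ e.inv, by simp [hh], fun h' hh' => ?_⟩
      rw [← huniq (h' ≫ e.hom) (by simpa using hh')]
      simp
  | step ι b r hι hE hb hr ih =>
    intro W _ π y hy _ hdim hπ
    rw [Category.assoc]
    exact .step ι b (r ≫ π) hι hE hb (ih π hy hdim hπ)

/-- The blowing up of a regular scheme at a regular closed point is regular. -/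
theorem isRegularLocalRing {X Y : Scheme.{u}} [IsLocallyNoetherian Y] {y : Y} (hy : IsClosed ({y} : Set Y))
    (hY : ∀ q : Y, IsRegularLocalRing (Y.presheaf.stalk q)) {f : X ⟶ Y} (hf : BlowUp.IsBlowUp f (ptIdeal hy))
    (x : X) : IsRegularLocalRing (X.presheaf.stalk x) := by
  let C := ptIdeal hy
  have hsupp : ∀ w : Y, w ∈ C.support ↔ w = y := fun w => by
    rw [← SetLike.mem_coe, coe_support_ptIdeal hy]
    rfl
  have hC : ∀ z : C.subscheme, IsRegularLocalRing (C.subscheme.presheaf.stalk z) := fun z => by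
    have hz : C.subschemeι z = y := (hsupp _).1 (by
      rw [← SetLike.mem_coe, ← Scheme.IdealSheafData.range_subschemeι]; exact ⟨z, rfl⟩)
    obtain ⟨V, hV, hzV, -⟩ := exists_isAffineOpen_mem_and_subset (X := Y) (x := C.subschemeι z) (U := ⊤) trivial
    have hk := FormalH7.ker_stalkMap_subscheme C ⟨V, hV⟩ z hzV
    have hm : ∀ (w : Y) (hw : w ∈ V), w = y → (C.ideal ⟨V, hV⟩).map (Y.presheaf.germ V w hw).hom =
        IsLocalRing.maximalIdeal (Y.presheaf.stalk w) := by
      rintro w hw rfl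
      exact map_germ_vanishing hy ⟨V, hV⟩ hw
    rw [hm _ hzV hz] at hk
    let eq := RingHom.quotientKerEquivOfSurjective (C.subschemeι.stalkMap_surjective z)
    haveI : IsRegularLocalRing (Y.presheaf.stalk (C.subschemeι z) ⧸ RingHom.ker (C.subschemeι.stalkMap z).hom) := by
      rw [hk]
      exact inferInstanceAs (IsRegularLocalRing (IsLocalRing.ResidueField (Y.presheaf.stalk (C.subschemeι z))))
    exact IsRegularLocalRing.of_ringEquiv eq
  have hf' : BlowUp.IsBlowUp f C.subschemeι.ker := by rw [Scheme.IdealSheafData.ker_subschemeι]; exact hf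
  exact BlowUpReg6.isRegularLocalRing_stalk C.subschemeι hY hC f hf' x

variable {X Y : Scheme.{u}}

/-- Points which are not closed and map to closed points. -/
def contracted (f : X ⟶ Y) : Set X := {x | ¬ IsClosed ({x} : Set X) ∧ IsClosed ({f x} : Set Y)}

theorem exists_closure_ne {x : X} (h : ¬ IsClosed ({x} : Set X)) : ∃ c, x ⤳ c ∧ c ≠ x := by
  by_contra h'
  push Not at h'
  exact h (closure_eq_iff_isClosed.1 (Set.Subset.antisymm
    (fun c hc => h' c (specializes_iff_mem_closure.2 hc)) subset_closure))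

theorem finite_nonclosed_out [IsIntegral X] [NoetherianSpace X] (hX : RelMin.NoChain X) (f : X ⟶ Y) (V : Y.Opens)
    (hgen : f (genericPoint X) ∈ V) : {x : X | f x ∉ V ∧ ¬ IsClosed ({x} : Set X)}.Finite := by
  classical
  obtain ⟨S, hS, hS1, hS2, hSeq⟩ := NoetherianSpace.exists_finite_set_isClosed_irreducible
    (V.2.preimage f.continuous).isClosed_compl
  haveI : Finite S := hS
  refine (Set.finite_range fun T : S => (hS2 T.1 T.2).genericPoint).subset ?_
  rintro x ⟨hx, hxc⟩
  obtain ⟨T, hT, hxT⟩ := Set.mem_sUnion.1 (hSeq ▸ hx : x ∈ ⋃₀ S)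
  refine ⟨⟨T, hT⟩, ?_⟩
  have hg := (hS2 T hT).isGenericPoint_genericPoint (hS1 T hT)
  have hgV : f (hS2 T hT).genericPoint ∉ V := by
    have : (hS2 T hT).genericPoint ∈ (f.base ⁻¹' (V : Set Y))ᶜ := hSeq ▸ Set.mem_sUnion_of_mem hg.mem hT
    exact this
  obtain ⟨c, hc, hcne⟩ := exists_closure_ne hxc
  by_contra hne
  exact hX (genericPoint X) (hS2 T hT).genericPoint x c (genericPoint_specializes _) (hg.specializes hxT) hc
    (fun e => hgV (e ▸ hgen)) hne hcne.symm

theorem contracted_subset (f : X ⟶ Y) (V : Y.Opens) [IsIso (f ∣_ V)] :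
    contracted f ⊆ {x : X | f x ∉ V ∧ ¬ IsClosed ({x} : Set X)} := by
  rintro x ⟨hx, hfx⟩
  refine ⟨fun hV => ?_, hx⟩
  obtain ⟨c, hc, hcne⟩ := exists_closure_ne hx
  exact hcne (eq_of_restrict f V hV ((hc.map f.continuous).mem_closed hfx rfl).symm).symm

/-- A proper birational morphism of regular surfaces is a composite of blowups at points. -/
theorem isContractionSeq_of_birational (n : ℕ) : ∀ (X Y : Scheme.{u}) [IsIntegral X] [IsNoetherian X]
    [IsIntegral Y] [IsNoetherian Y] (f : X ⟶ Y) [IsProper f],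
    RelMin.NoChain X → (∀ x : X, IsRegularLocalRing (X.presheaf.stalk x)) →
    RelMin.NoChain Y → (∀ y : Y, IsRegularLocalRing (Y.presheaf.stalk y)) →
    (∃ V : Y.Opens, (V : Set Y).Nonempty ∧ IsIso (f ∣_ V)) →
    (contracted f).ncard ≤ n → Models.IsContractionSeq f := by
  induction n using Nat.strong_induction_on with
  | _ n ih =>
  intro X Y _ _ _ _ f _ hXc hX hYc hY hbir hn
  obtain ⟨V, hV, hiso⟩ := hbir
  haveI := hiso
  obtain ⟨hgen, hb⟩ := RelMin.birational_of_restrict f hV
  haveI := hb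
  have hgV : genericPoint Y ∈ V := by
    obtain ⟨w, hw⟩ := hV
    exact (genericPoint_specializes w).mem_open V.2 hw
  have hYn : Pi1.IsNormalScheme Y := fun q => haveI := hY q; RelMin.isDomain_normal
  by_cases hfin : ∀ y, (f ⁻¹' {y}).Finite
  · haveI := isIso_of_finite_fibres f hYn hgen hfin
    exact Models.IsContractionSeq.iso (asIso f)
  push Not at hfin
  obtain ⟨y, hyinf⟩ := hfin
  have hyV : y ∉ V := fun h => hyinf (Set.Subsingleton.finite fun a ha b hb' =>
    eq_of_restrict f V (by rw [show f a = y from ha]; exact h) ((ha : f a = y).trans (hb' : f b = y).symm))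
  have hy : IsClosed ({y} : Set Y) := by
    by_contra hh
    refine hyinf ((finite_nonclosed_out hXc f V (by rw [hgen]; exact hgV)).subset fun a ha => ?_)
    refine ⟨by rw [show f a = y from ha]; exact hyV, fun hc => hh ?_⟩
    have := f.isClosedMap _ hc
    rwa [Set.image_singleton, show f a = y from ha] at this
  obtain ⟨x₁, hx₁, x₂, hx₂, hne⟩ := Set.Infinite.nontrivial hyinf
  have hbig : ∃ x x' : X, x ≠ x' ∧ f x = y ∧ f x' = y := ⟨x₁, x₂, hne, hx₁, hx₂⟩
  haveI := hY y
  haveI := (RelMin.isDomain_normal (A := Y.presheaf.stalk y)).1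
  have hdim : ringKrullDim (Y.presheaf.stalk y) = 2 := by
    refine le_antisymm (RelMin.ringKrullDim_stalk_le hYc y) (not_lt.1 fun hlt => ?_)
    refine RelMin.not_valuationRing f hgen (fun q => (hYn q).2) hy hbig ?_
    have hT : (IsLocalRing.maximalIdeal (Y.presheaf.stalk y)).IsPrincipal → ValuationRing (Y.presheaf.stalk y) :=
      ((tfae_of_isNoetherianRing_of_isLocalRing_of_isDomain (Y.presheaf.stalk y)).out 4 1).1
    refine hT ?_
    obtain ⟨s, hs, hspan⟩ := Submodule.FG.exists_span_finset_card_eq_spanFinrank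
      (_root_.IsNoetherian.noetherian (IsLocalRing.maximalIdeal (Y.presheaf.stalk y)))
    have h1 : s.card ≤ 1 := by
      have h := IsRegularLocalRing.spanFinrank_maximalIdeal (R := Y.presheaf.stalk y)
      rw [← hs] at h
      rw [← h] at hlt
      have : s.card < 2 := by exact_mod_cast hlt
      omega
    rw [← hspan]
    rcases Finset.card_le_one_iff_subset_singleton.1 h1 with ⟨w, hw⟩
    rcases Finset.subset_singleton_iff.1 hw with rfl | rfl
    · exact ⟨0, by simp⟩
    · exact ⟨w, by simp⟩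
  let C := ptIdeal hy
  have hcart : BlowUp.IsEffCartierIdeal (C.comap f) :=
    RelMin.isEffCartierIdeal_comap f hgen hy hXc hX hYc hY hbig
  obtain ⟨Y', π, hπ⟩ : ∃ (Y' : Scheme.{u}) (π : Y' ⟶ Y), BlowUp.IsBlowUp π C :=
    ⟨_, _, BlowUpExist.ChartIdx.isBlowUp_blowUpHom (C := C)⟩
  haveI := isProper hy hπ
  haveI : IsLocallyNoetherian Y' := LocallyOfFiniteType.isLocallyNoetherian π
  haveI : CompactSpace Y' := QuasiCompact.compactSpace_of_compactSpace π
  haveI : IsNoetherian Y' := {}
  obtain ⟨g, hg, -⟩ := hπ.2 X f hcart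
  haveI : Nonempty Y' := ⟨g (genericPoint X)⟩
  obtain ⟨hint, hπgen, -⟩ := BlowUpFib6.isIntegral_of_isBlowUp hπ
  haveI := hint
  haveI : IsProper (g ≫ π) := by rw [hg]; infer_instance
  haveI : IsProper g := IsProper.of_comp g π
  have hY' := fun z => isRegularLocalRing hy hY hπ z
  have hY'c := noChain hy hπ hdim hYc
  have hfib : ∀ z, π (g z) = f z := fun z => by rw [← Scheme.Hom.comp_apply, hg]
  -- birationality of `g`
  let U : Y.Opens := ⟨{y}ᶜ, hy.isOpen_compl⟩
  haveI : IsIso (π ∣_ U) := isIso_restrict hy hπ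
  have hgU : genericPoint Y ∈ V ⊓ U := ⟨hgV, fun h => hyV ((h : genericPoint Y = y) ▸ hgV)⟩
  haveI hf' : IsIso (f ∣_ (V ⊓ U)) := isIso_restrict_le f V _ inf_le_left
  haveI : IsIso (π ∣_ (V ⊓ U)) := isIso_restrict_le π U _ inf_le_right
  haveI hg' : IsIso (g ∣_ π ⁻¹ᵁ (V ⊓ U)) := by
    have h : IsIso (g ∣_ π ⁻¹ᵁ (V ⊓ U) ≫ π ∣_ (V ⊓ U)) := by
      rw [← morphismRestrict_comp]; subst hg; exact hf'
    exact IsIso.of_isIso_comp_right _ (π ∣_ (V ⊓ U))
  have hne' : ((π ⁻¹ᵁ (V ⊓ U) : Y'.Opens) : Set Y').Nonempty :=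
    ⟨genericPoint Y', by show π (genericPoint Y') ∈ V ⊓ U; rw [hπgen]; exact hgU⟩
  obtain ⟨hggen, -⟩ := RelMin.birational_of_restrict g hne'
  -- the exceptional curve is not contracted by `g`
  obtain ⟨η, hη, hηc, -⟩ := exists_eta hy hπ hdim
  obtain ⟨ξ, -, hξ⟩ : η ∈ g '' (Set.univ : Set X) :=
    (genericPoint_specializes η).mem_closed (g.isClosedMap _ isClosed_univ) ⟨genericPoint X, trivial, hggen⟩
  have hsub : contracted g ⊆ contracted f := fun z hz => ⟨hz.1, by
    have := π.isClosedMap _ hz.2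
    rwa [Set.image_singleton, hfib] at this⟩
  have hξf : ξ ∈ contracted f := by
    refine ⟨fun hc => hηc ?_, ?_⟩
    · have := g.isClosedMap _ hc
      rwa [Set.image_singleton, hξ] at this
    · rw [← hfib, hξ, hη]; exact hy
  have hfinf : (contracted f).Finite :=
    (finite_nonclosed_out hXc f V (by rw [hgen]; exact hgV)).subset (contracted_subset f V)
  have hlt : (contracted g).ncard < (contracted f).ncard :=
    Set.ncard_lt_ncard (Set.ssubset_iff_of_subset hsub |>.2 ⟨ξ, hξf, fun h => hηc (hξ ▸ h.2)⟩) hfinf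
  have hseq := ih (contracted g).ncard (lt_of_lt_of_le hlt hn) X Y' g hXc hX hY'c hY' ⟨_, hne', hg'⟩ le_rfl
  rw [← hg]
  exact seq_comp hseq π hy hdim hπ

/-- A proper birational morphism which is not an isomorphism near a closed point has a big fibre there. -/
theorem exists_two_of_not_iso [IsIntegral X] [IsNoetherian X] [IsIntegral Y] (f : X ⟶ Y) [IsProper f]
    (hXc : RelMin.NoChain X) (hYn : Pi1.IsNormalScheme Y)
    (hbir : ∃ V : Y.Opens, (V : Set Y).Nonempty ∧ IsIso (f ∣_ V)) {y : Y} (hy : IsClosed ({y} : Set Y))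
    (hP : ∀ W : Y.Opens, y ∈ W → ¬ IsIso (f ∣_ W)) : ∃ x x' : X, x ≠ x' ∧ f x = y ∧ f x' = y := by
  obtain ⟨V, hV, hiso⟩ := hbir
  haveI := hiso
  obtain ⟨hgen, -⟩ := RelMin.birational_of_restrict f hV
  have hgV : genericPoint Y ∈ V := by
    obtain ⟨w, hw⟩ := hV
    exact (genericPoint_specializes w).mem_open V.2 hw
  have hfinS := finite_nonclosed_out hXc f V (by rw [hgen]; exact hgV)
  by_contra hbig
  let B : Set Y := ⋃ ξ ∈ contracted f, f '' closure {ξ}
  have hB : IsClosed B := (hfinS.subset (contracted_subset f V)).isClosed_biUnion fun ξ _ =>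
    f.isClosedMap _ isClosed_closure
  have hyB : y ∉ B := by
    intro h
    obtain ⟨ξ, hξ, c, hc, hcy⟩ := by simpa [B] using h
    have hc' : ξ ⤳ c := specializes_iff_mem_closure.2 hc
    have hξy : f ξ = y := ((hc'.map f.continuous).mem_closed hξ.2 rfl).symm.trans hcy
    obtain ⟨d, hd, hdne⟩ := exists_closure_ne hξ.1
    exact hbig ⟨ξ, d, hdne.symm, hξy, ((hd.map f.continuous).mem_closed hξ.2 rfl : f d = f ξ).trans hξy⟩
  let W : Y.Opens := ⟨Bᶜ, hB.isOpen_compl⟩
  refine hP W hyB ?_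
  -- fibres over `W` are finite
  have hfin : ∀ w ∈ W, (f ⁻¹' {w}).Finite := fun w hw => by
    by_cases hwV : w ∈ V
    · exact Set.Subsingleton.finite fun a ha b hb' =>
        eq_of_restrict f V (by rw [show f a = w from ha]; exact hwV) ((ha : f a = w).trans (hb' : f b = w).symm)
    by_cases hwc : IsClosed ({w} : Set Y)
    · obtain ⟨S, hS, hS1, hS2, hSeq⟩ := NoetherianSpace.exists_finite_set_isClosed_irreducible
        (hwc.preimage f.continuous)
      haveI : Finite S := hS
      refine (Set.finite_range fun T : S => (hS2 T.1 T.2).genericPoint).subset fun a ha => ?_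
      obtain ⟨T, hT, haT⟩ := Set.mem_sUnion.1 (hSeq ▸ ha : a ∈ ⋃₀ S)
      refine ⟨⟨T, hT⟩, ?_⟩
      have hg := (hS2 T hT).isGenericPoint_genericPoint (hS1 T hT)
      have hgw : f (hS2 T hT).genericPoint = w := by
        have : (hS2 T hT).genericPoint ∈ f ⁻¹' {w} := hSeq ▸ Set.mem_sUnion_of_mem hg.mem hT
        exact this
      have hgc : IsClosed ({(hS2 T hT).genericPoint} : Set X) := by
        by_contra hh
        refine hw (Set.mem_biUnion (show (hS2 T hT).genericPoint ∈ contracted f from ⟨hh, by rw [hgw]; exact hwc⟩) ?_)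
        exact ⟨_, subset_closure rfl, hgw⟩
      exact ((hg.specializes haT).mem_closed hgc rfl).symm
    · refine hfinS.subset fun a ha => ⟨by rw [show f a = w from ha]; exact hwV, fun hc => hwc ?_⟩
      have := f.isClosedMap _ hc
      rwa [Set.image_singleton, show f a = w from ha] at this
  -- the restriction is an isomorphism
  have hgW : genericPoint Y ∈ W := (genericPoint_specializes y).mem_open W.2 hyB
  haveI : Nonempty W := ⟨⟨_, hgW⟩⟩
  haveI : Nonempty (f ⁻¹ᵁ W : X.Opens) := ⟨⟨genericPoint X, by show f (genericPoint X) ∈ W; rw [hgen]; exact hgW⟩⟩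
  haveI : IsProper (f ∣_ W) := MorphismProperty.of_isPullback (isPullback_morphismRestrict f W).flip ‹_›
  have hV' : ((W.ι ⁻¹ᵁ V : W.toScheme.Opens) : Set W.toScheme).Nonempty := ⟨⟨_, hgW⟩, hgV⟩
  haveI : IsIso (f ∣_ W ∣_ W.ι ⁻¹ᵁ V) := by
    have e : IsIso (f ∣_ W.ι ''ᵁ (W.ι ⁻¹ᵁ V)) := isIso_restrict_le f V _ (by rintro _ ⟨v, hv, rfl⟩; exact hv)
    exact ((MorphismProperty.isomorphisms Scheme.{u}).arrow_mk_iso_iff (morphismRestrictRestrict f W (W.ι ⁻¹ᵁ V))).2 e
  obtain ⟨hg', hb'⟩ := RelMin.birational_of_restrict (f ∣_ W) hV'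
  haveI := hb'
  refine isIso_of_finite_fibres (f ∣_ W) (fun q => ?_) hg' fun w => ?_
  · haveI := (hYn (W.ι q)).1
    haveI := (hYn (W.ι q)).2
    let eq := (asIso (W.ι.stalkMap q)).commRingCatIsoToRingEquiv
    exact ⟨eq.toMulEquiv.isDomain_iff.1 inferInstance, IsIntegrallyClosed.of_equiv eq⟩
  · refine Set.Finite.of_finite_image ((hfin w.1 w.2).subset ?_) (Subtype.val_injective.injOn)
    rintro _ ⟨a, ha, rfl⟩
    show f a.1 = w.1
    rw [← show (f ∣_ W) a = w from ha]
    exact (morphismRestrict_base_coe f W a).symm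

end Groth.Agent.PointBlowUp
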