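import Mathlib

/-!
# The colength of an ideal drops under the blowing up of a regular point

`A` is a local ring with maximal ideal `(x, y)`, `B` a localization of `A[y/x]`.
-/

set_option autoImplicit false
set_option linter.style.haveILetI false
set_option maxHeartbeats 1000000

universe u

open Polynomial

namespace Groth.Agent.PointBlowUp

variable {A : Type u} [CommRing A]

theorem pow_pair_mem {x y a : A} (n : ℕ) (ha : a ∈ Ideal.span {x, y} ^ n) :
    ∃ c : Fin (n + 1) → A, a = ∑ j, c j * (x ^ (n - j.1) * y ^ j.1) := by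
  classical
  let S : Ideal A := Ideal.span (Set.range fun j : Fin (n + 1) => x ^ (n - j.1) * y ^ j.1)
  suffices h : Ideal.span {x, y} ^ n ≤ S by
    obtain ⟨c, hc⟩ := Ideal.mem_span_range_iff_exists_fun.1 (h ha)
    exact ⟨c, hc.symm⟩
  clear ha a
  induction n with
  | zero =>
    intro z _
    rw [show z = z * (x ^ (0 - ((0 : Fin 1) : ℕ)) * y ^ ((0 : Fin 1) : ℕ)) by simp]
    exact Ideal.mul_mem_left _ _ (Ideal.subset_span ⟨0, rfl⟩)
  | succ n ih =>
    rw [pow_succ]
    refine Ideal.mul_le.2 fun r hr s hs => ?_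
    obtain ⟨c, hc⟩ := Ideal.mem_span_range_iff_exists_fun.1 (ih hr)
    obtain ⟨u, v, rfl⟩ := Ideal.mem_span_pair.1 hs
    rw [← hc, mul_add, Finset.sum_mul, Finset.sum_mul]
    refine add_mem (sum_mem fun j _ => ?_) (sum_mem fun j _ => ?_)
    · have e : c j * (x ^ (n - j.1) * y ^ j.1) * (u * x) = c j * u * (x ^ (n + 1 - j.1) * y ^ j.1) := by
        rw [show n + 1 - j.1 = n - j.1 + 1 by omega, pow_succ]; ring
      rw [e]
      exact Ideal.mul_mem_left _ _ (Ideal.subset_span ⟨⟨j.1, by omega⟩, rfl⟩)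
    · have e : c j * (x ^ (n - j.1) * y ^ j.1) * (v * y) = c j * v * (x ^ (n + 1 - (j.1 + 1)) * y ^ (j.1 + 1)) := by
        rw [show n + 1 - (j.1 + 1) = n - j.1 by omega, pow_succ]; ring
      rw [e]
      exact Ideal.mul_mem_left _ _ (Ideal.subset_span ⟨⟨j.1 + 1, by omega⟩, rfl⟩)

variable [IsLocalRing A] {B : Type u} [CommRing B] [Algebra A B]

/-- An ideal of finite colength has an order. -/
theorem exists_order [IsNoetherianRing A] (hA : ¬ IsNilpotent (IsLocalRing.maximalIdeal A)) {I : Ideal A}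
    (hI : I ≠ ⊤) {N : ℕ} (hN : IsLocalRing.maximalIdeal A ^ N ≤ I) :
    ∃ n, 1 ≤ n ∧ I ≤ IsLocalRing.maximalIdeal A ^ n ∧ ¬ I ≤ IsLocalRing.maximalIdeal A ^ (n + 1) := by
  classical
  let m := IsLocalRing.maximalIdeal A
  have hNI : ¬ I ≤ m ^ (N + 1) := fun hle' => by
    have hle : m ^ N ≤ m • m ^ N := by
      rw [smul_eq_mul, ← pow_succ']
      exact hN.trans hle'
    exact hA ⟨N, Submodule.eq_bot_of_le_smul_of_le_jacobson_bot m _ (IsNoetherian.noetherian _) hle
      (IsLocalRing.jacobson_eq_maximalIdeal ⊥ bot_ne_top).ge⟩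
  have hex : ∃ k, ¬ I ≤ m ^ (k + 1) := ⟨N, hNI⟩
  let n := Nat.find hex
  have hn : ¬ I ≤ m ^ (n + 1) := Nat.find_spec hex
  have hn1 : 1 ≤ n := by
    by_contra h
    refine hn ?_
    rw [show n + 1 = 1 by omega, pow_one]
    exact IsLocalRing.le_maximalIdeal hI
  refine ⟨n, hn1, ?_, hn⟩
  have := Nat.find_min hex (show n - 1 < n by omega)
  rw [not_not, show n - 1 + 1 = n by omega] at this
  exact this

theorem isFiniteLength_quotient [IsNoetherianRing A] {I : Ideal A} {N : ℕ}
    (hN : IsLocalRing.maximalIdeal A ^ N ≤ I) : IsArtinian A (A ⧸ I) ∧ IsNoetherian A (A ⧸ I) := by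
  haveI : Module.Finite A (A ⧸ I) := inferInstance
  rcases eq_or_ne I ⊤ with rfl | hI
  · exact ⟨inferInstance, inferInstance⟩
  have hnil : (IsLocalRing.maximalIdeal A).map (Ideal.Quotient.mk I) ^ N = ⊥ := by
    rw [← Ideal.map_pow, Ideal.map_eq_bot_iff_le_ker, Ideal.mk_ker]
    exact hN
  haveI : IsLocalRing (A ⧸ I) :=
    haveI : Nontrivial (A ⧸ I) := Ideal.Quotient.nontrivial_iff.mpr hI
    IsLocalRing.of_surjective' _ Ideal.Quotient.mk_surjective
  haveI : IsArtinianRing (A ⧸ I) := by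
    refine isArtinianRing_iff_isNilpotent_maximalIdeal _ |>.2 ⟨N, le_bot_iff.1 (le_trans (Ideal.pow_right_mono ?_ N) hnil.le)⟩
    intro z hz
    obtain ⟨a, rfl⟩ := Ideal.Quotient.mk_surjective z
    refine Ideal.mem_map_of_mem _ ?_
    by_contra ha
    exact (IsLocalRing.mem_maximalIdeal _).1 hz ((IsLocalRing.notMem_maximalIdeal.1 ha).map _)
  exact ⟨isArtinian_of_surjective_algebraMap (R := A ⧸ I) Ideal.Quotient.mk_surjective, inferInstance⟩

/-- The key estimate. -/
theorem colength_lt [IsNoetherianRing A] (x y : A) (hm : IsLocalRing.maximalIdeal A = Ideal.span {x, y})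
    (t : B) (hxt : algebraMap A B x * t = algebraMap A B y)
    (hx : algebraMap A B x ∈ nonZeroDivisors B)
    (hgen : ∀ b : B, ∃ p s : A[X], IsUnit (aeval t s) ∧ b * aeval t s = aeval t p)
    (I : Ideal A) (N : ℕ) (hN : IsLocalRing.maximalIdeal A ^ N ≤ I) (n : ℕ) (hn1 : 1 ≤ n)
    (hnI : I ≤ IsLocalRing.maximalIdeal A ^ n) (hn : ¬ I ≤ IsLocalRing.maximalIdeal A ^ (n + 1))
    (J : Ideal B) (hIJ : I.map (algebraMap A B) = Ideal.span {algebraMap A B x ^ n} * J) :
    Module.length B (B ⧸ J) < Module.length A (A ⧸ I) ∧ Module.Finite A (B ⧸ J) := by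
  classical
  let m := IsLocalRing.maximalIdeal A
  let xB := algebraMap A B x
  haveI := (isFiniteLength_quotient hN).1
  haveI := (isFiniteLength_quotient hN).2
  -- division by `x ^ n`
  have hdiv : ∀ a ∈ m ^ n, ∃ b, xB ^ n * b = algebraMap A B a := fun a ha => by
    rw [show m = _ from hm] at ha
    obtain ⟨c, rfl⟩ := pow_pair_mem n ha
    refine ⟨∑ j : Fin (n + 1), algebraMap A B (c j) * t ^ j.1, ?_⟩
    rw [Finset.mul_sum, map_sum]
    refine Finset.sum_congr rfl fun j _ => ?_
    rw [map_mul, map_mul, map_pow, map_pow, ← hxt]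
    calc xB ^ n * (algebraMap A B (c j) * t ^ j.1)
        = algebraMap A B (c j) * (xB ^ (n - j.1 + j.1) * t ^ j.1) := by
          rw [show n - j.1 + j.1 = n by omega]; ring
      _ = _ := by rw [pow_add, mul_pow]; ring
  have hmemJ : ∀ b, b ∈ J ↔ xB ^ n * b ∈ I.map (algebraMap A B) := fun b => by
    rw [hIJ, Ideal.mem_span_singleton_mul]
    refine ⟨fun h => ⟨b, h, rfl⟩, fun ⟨z, hz, h⟩ => ?_⟩
    rwa [(mul_cancel_left_mem_nonZeroDivisors (pow_mem hx n)).1 h] at hz
  have hmapJ : I.map (algebraMap A B) ≤ J := hIJ ▸ Ideal.mul_le_right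
  -- the leading coefficient
  obtain ⟨f, hfI, hfn⟩ := Set.not_subset.1 hn
  obtain ⟨c, hc⟩ := pow_pair_mem n (hm ▸ hnI hfI : f ∈ Ideal.span {x, y} ^ n)
  have hs : (Finset.univ.filter fun j : Fin (n + 1) => c j ∉ m).Nonempty := by
    by_contra hh
    rw [Finset.not_nonempty_iff_eq_empty, Finset.filter_eq_empty_iff] at hh
    refine hfn ?_
    rw [hc]
    refine sum_mem fun j _ => ?_
    rw [pow_succ']
    refine Ideal.mul_mem_mul (not_not.1 (hh (Finset.mem_univ j))) ?_
    rw [hm]
    have hxy := Ideal.mul_mem_mul (Ideal.pow_mem_pow (show x ∈ Ideal.span {x, y} from Ideal.subset_span (by simp)) (n - j.1))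
      (Ideal.pow_mem_pow (show y ∈ Ideal.span {x, y} from Ideal.subset_span (by simp)) j.1)
    rwa [← pow_add, show n - j.1 + j.1 = n by omega] at hxy
  let d := (Finset.univ.filter fun j : Fin (n + 1) => c j ∉ m).max' hs
  have hd : c d ∉ m := (Finset.mem_filter.1 (Finset.max'_mem _ hs)).2
  have habove : ∀ j, d < j → c j ∈ m := fun j hj => by
    by_contra h
    exact absurd (Finset.le_max' _ j (Finset.mem_filter.2 ⟨Finset.mem_univ j, h⟩)) (not_le.2 hj)
  -- the `A`-submodule spanned by the low powers of `t`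
  let q : B →ₐ[A] B ⧸ J := Ideal.Quotient.mkₐ A J
  let T : B ⧸ J := q t
  let xM : B ⧸ J := q xB
  let C : Submodule A (B ⧸ J) := LinearMap.range ((aeval T : A[X] →ₐ[A] B ⧸ J).toLinearMap)
  let V : Submodule A (B ⧸ J) := Submodule.span A (Set.range fun j : Fin d.1 => T ^ j.1)
  have hC : ∀ p : A[X], aeval T p ∈ C := fun p => ⟨p, rfl⟩
  have hTC : ∀ k, T ^ k ∈ C := fun k => by
    simpa using hC (X ^ k)
  have hVC : V ≤ C := Submodule.span_le.2 (by rintro _ ⟨j, rfl⟩; exact hTC j.1)
  have hxC : ∀ z ∈ C, xM * z ∈ C := by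
    rintro z ⟨p, rfl⟩
    refine ⟨Polynomial.C x * p, ?_⟩
    simp [xM, xB]
  let W : Submodule A (B ⧸ J) := V ⊔ C.map (LinearMap.mulLeft A xM)
  have hxW : ∀ z ∈ C, xM * z ∈ W := fun z hz => Submodule.mem_sup_right ⟨z, hz, rfl⟩
  have hgJ : ∑ j : Fin (n + 1), c j • T ^ j.1 = 0 := by
    have h1 : (∑ j : Fin (n + 1), algebraMap A B (c j) * t ^ j.1) ∈ J := by
      rw [hmemJ]
      convert Ideal.mem_map_of_mem (algebraMap A B) hfI using 1
      rw [hc, Finset.mul_sum, map_sum]
      refine Finset.sum_congr rfl fun j _ => ?_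
      rw [map_mul, map_mul, map_pow, map_pow, ← hxt]
      calc xB ^ n * (algebraMap A B (c j) * t ^ j.1)
          = algebraMap A B (c j) * (xB ^ (n - j.1 + j.1) * t ^ j.1) := by
            rw [show n - j.1 + j.1 = n by omega]; ring
        _ = _ := by rw [pow_add, mul_pow]; ring
    have h2 := (Ideal.Quotient.eq_zero_iff_mem).2 h1
    rw [map_sum] at h2
    refine Eq.trans (Finset.sum_congr rfl fun j _ => ?_) h2
    rw [map_mul, map_pow]
    exact Algebra.smul_def (c j) (T ^ j.1)
  have hmW : ∀ a ∈ m, ∀ z ∈ C, a • z ∈ W := fun a ha z hz => by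
    rw [show m = _ from hm] at ha
    obtain ⟨u, v, rfl⟩ := Ideal.mem_span_pair.1 ha
    rw [add_smul, mul_smul, mul_smul]
    refine add_mem (Submodule.smul_mem _ _ ?_) (Submodule.smul_mem _ _ ?_)
    · rw [Algebra.smul_def]
      exact hxW z hz
    · rw [Algebra.smul_def, show algebraMap A (B ⧸ J) y = xM * T from by
        rw [IsScalarTower.algebraMap_apply A B (B ⧸ J), ← hxt]; exact map_mul q xB t, mul_assoc]
      obtain ⟨p, rfl⟩ := hz
      exact hxW _ ⟨X * p, by simp [T]⟩
  have hdW : T ^ d.1 ∈ W := by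
    obtain ⟨e, he⟩ := IsLocalRing.notMem_maximalIdeal.1 hd
    rw [← Finset.add_sum_erase _ _ (Finset.mem_univ d), add_eq_zero_iff_eq_neg] at hgJ
    rw [show T ^ d.1 = (↑e⁻¹ : A) • (c d • T ^ d.1) by rw [smul_smul, ← he, Units.inv_mul, one_smul], hgJ]
    refine Submodule.smul_mem _ _ (neg_mem (sum_mem fun j hj => ?_))
    rcases lt_or_gt_of_ne (Finset.ne_of_mem_erase hj) with h | h
    · exact Submodule.smul_mem _ _ (Submodule.mem_sup_left (Submodule.subset_span ⟨⟨j.1, h⟩, rfl⟩))
    · exact hmW _ (habove j h) _ (hTC _)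
  have hTW : ∀ z ∈ W, T * z ∈ W := fun z hz => by
    obtain ⟨v, hv, w, ⟨w', hw', rfl⟩, rfl⟩ := Submodule.mem_sup.1 hz
    rw [mul_add]
    refine add_mem ?_ ?_
    · clear hz
      induction hv using Submodule.span_induction with
      | mem v hv =>
        obtain ⟨j, rfl⟩ := hv
        show T * T ^ j.1 ∈ W
        rw [← pow_succ']
        rcases Nat.lt_or_ge (j.1 + 1) d.1 with h | h
        · exact Submodule.mem_sup_left (Submodule.subset_span ⟨⟨j.1 + 1, h⟩, rfl⟩)
        · rw [show j.1 + 1 = d.1 by omega]; exact hdW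
      | zero => rw [mul_zero]; exact zero_mem _
      | add a b _ _ ha hb => rw [mul_add]; exact add_mem ha hb
      | smul a v _ ha => rw [Algebra.mul_smul_comm]; exact Submodule.smul_mem _ _ ha
    · show T * (xM * w') ∈ W
      obtain ⟨p, rfl⟩ := hw'
      rw [mul_left_comm]
      exact hxW _ ⟨X * p, by simp [T]⟩
  have h1W : (1 : B ⧸ J) ∈ W := by
    rcases Nat.eq_zero_or_pos d.1 with h | h
    · have h' := hdW
      rwa [h, pow_zero] at h'
    · exact Submodule.mem_sup_left (Submodule.subset_span ⟨⟨0, h⟩, pow_zero T⟩)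
  have hCW : C ≤ W := by
    rintro _ ⟨p, rfl⟩
    induction p using Polynomial.induction_on' with
    | add p q hp hq => rw [map_add]; exact add_mem hp hq
    | monomial k a =>
      have hk : T ^ k ∈ W := by
        induction k with
        | zero => rw [pow_zero]; exact h1W
        | succ k ih => rw [pow_succ']; exact hTW _ ih
      simpa [Algebra.smul_def] using Submodule.smul_mem W a hk
  have hxNJ : xM ^ N = 0 := by
    show q xB ^ N = 0
    rw [← map_pow]
    refine (Ideal.Quotient.eq_zero_iff_mem).2 (hmapJ ?_)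
    rw [show xB ^ N = algebraMap A B (x ^ N) from (map_pow _ _ _).symm]
    exact Ideal.mem_map_of_mem _ (hN (Ideal.pow_mem_pow (by rw [hm]; exact Ideal.subset_span (by simp)) N))
  have hxV : ∀ v ∈ V, xM * v ∈ V := fun v hv => by
    rw [show xM * v = x • v from (Algebra.smul_def x v).symm]
    exact Submodule.smul_mem _ _ hv
  have hCk : ∀ k, ∀ z ∈ C, ∃ v ∈ V, ∃ w ∈ C, z = v + xM ^ k * w := fun k => by
    induction k with
    | zero => exact fun z hz => ⟨0, zero_mem _, z, hz, by simp⟩
    | succ k ih =>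
      intro z hz
      obtain ⟨v, hv, w, hw, rfl⟩ := ih z hz
      obtain ⟨v', hv', w', ⟨w'', hw'', rfl⟩, rfl⟩ := Submodule.mem_sup.1 (hCW hw)
      have hxkV : xM ^ k * v' ∈ V := by
        clear * - hxV hv'
        induction k with
        | zero => simpa using hv'
        | succ k ih => rw [pow_succ', mul_assoc]; exact hxV _ ih
      refine ⟨v + xM ^ k * v', add_mem hv hxkV, w'', hw'', ?_⟩
      show v + xM ^ k * (v' + xM * w'') = _
      ring
  have hCV : C ≤ V := fun z hz => by
    obtain ⟨v, hv, w, -, rfl⟩ := hCk N z hz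
    rw [hxNJ, zero_mul, add_zero]
    exact hv
  -- everything is reached
  have htop : C = ⊤ := by
    let Q : Subalgebra A (B ⧸ J) := (aeval T : A[X] →ₐ[A] B ⧸ J).range
    have hQC : ∀ z, z ∈ Q ↔ z ∈ C := fun z => Iff.rfl
    haveI : Module.Finite A Q := by
      have hCe : C = V := le_antisymm hCV hVC
      have : (Subalgebra.toSubmodule Q) = V := hCe
      exact Module.Finite.iff_fg.2 (show (Subalgebra.toSubmodule Q).FG by rw [this]; exact Submodule.fg_span (Set.finite_range _))
    haveI : IsArtinian A Q := by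
      have hann : ∀ (a : A) (z : Q), a ∈ I → a • z = 0 := fun a z ha => Subtype.ext (by
        show a • (z : B ⧸ J) = 0
        rw [Algebra.smul_def, IsScalarTower.algebraMap_apply A B (B ⧸ J),
          Ideal.Quotient.algebraMap_eq, (Ideal.Quotient.eq_zero_iff_mem).2 (hmapJ (Ideal.mem_map_of_mem _ ha)),
          zero_mul])
      obtain ⟨r, φ, hφ⟩ := Module.Finite.exists_fin' A Q
      let ψ : (Fin r → A ⧸ I) →ₗ[A] Q := ∑ i, (Submodule.liftQ I (LinearMap.toSpanSingleton A Q (φ (Pi.single i 1)))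
        (fun a ha => by simpa using hann a _ ha)).comp (LinearMap.proj i)
      refine isArtinian_of_surjective (Fin r → A ⧸ I) ψ fun z => ?_
      obtain ⟨w, rfl⟩ := hφ z
      refine ⟨fun i => Submodule.Quotient.mk (w i), ?_⟩
      simp only [ψ, LinearMap.sum_apply, LinearMap.comp_apply, LinearMap.proj_apply, Submodule.liftQ_apply,
        LinearMap.toSpanSingleton_apply]
      conv_rhs => rw [← Finset.univ_sum_single w]
      rw [map_sum]
      refine Finset.sum_congr rfl fun i _ => ?_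
      rw [← map_smul, ← Pi.single_smul, smul_eq_mul, mul_one]
    haveI : IsArtinianRing Q := isArtinian_of_tower A inferInstance
    refine top_le_iff.1 fun z _ => ?_
    obtain ⟨b, rfl⟩ := Ideal.Quotient.mk_surjective z
    obtain ⟨p, s, hs, hb⟩ := hgen b
    have hqa : ∀ p : A[X], q (aeval t p) = aeval T p := fun p => (aeval_algHom_apply q t p).symm
    have hsU : IsUnit (q (aeval t s)) := hs.map q
    let sQ : Q := ⟨q (aeval t s), (hQC _).2 (by rw [hqa]; exact hC s)⟩
    have hnz : sQ ∈ nonZeroDivisors Q := by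
      rw [mem_nonZeroDivisors_iff_right]
      intro w hw
      exact Subtype.ext (hsU.mul_left_eq_zero.1 (congrArg Subtype.val hw))
    obtain ⟨e, he⟩ := IsArtinianRing.isUnit_of_mem_nonZeroDivisors hnz
    have hz : q b = aeval T p * ((↑e⁻¹ : Q) : B ⧸ J) := by
      have h1 : q b * (sQ : B ⧸ J) = aeval T p := by
        show q b * q (aeval t s) = _
        rw [← map_mul, hb, hqa]
      rw [← h1, mul_assoc, ← MulMemClass.coe_mul, ← he, Units.mul_inv, OneMemClass.coe_one, mul_one]
    show q b ∈ C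
    rw [hz]
    exact (hQC _).1 (mul_mem ((hQC _).2 (hC p)) (↑e⁻¹ : Q).2)
  have hfinite : Module.Finite A (B ⧸ J) := by
    refine ⟨?_⟩
    rw [← htop, show C = V from le_antisymm hCV hVC]
    exact Submodule.fg_span (Set.finite_range _)
  refine ⟨?_, hfinite⟩
  -- `(m ^ n + I) / I` surjects onto the quotient
  choose dv hdv using hdiv
  have hcancel : ∀ b b' : B, xB ^ n * b = xB ^ n * b' → b = b' := fun b b' h =>
    (mul_cancel_left_mem_nonZeroDivisors (pow_mem hx n)).1 h
  let Φ : ↥(m ^ n) →ₗ[A] B ⧸ J :=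
    { toFun := fun a => q (dv a.1 a.2)
      map_add' := fun a b => by
        rw [← map_add]
        refine congrArg q (hcancel _ _ ?_)
        rw [mul_add, hdv, hdv, hdv]
        exact map_add _ _ _
      map_smul' := fun r a => by
        rw [RingHom.id_apply, Algebra.smul_def, IsScalarTower.algebraMap_apply A B (B ⧸ J),
          Ideal.Quotient.algebraMap_eq]
        show q (dv (r • a).1 (r • a).2) = q (algebraMap A B r) * q (dv a.1 a.2)
        rw [← map_mul]
        refine congrArg q (hcancel _ _ ?_)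
        rw [hdv, mul_left_comm, hdv, ← map_mul]
        rfl }
  have hΦsurj : Function.Surjective Φ := fun z => by
    have hz : z ∈ V := hCV (htop ▸ Submodule.mem_top)
    refine LinearMap.mem_range.1 (Submodule.span_le.2 ?_ hz)
    rintro _ ⟨j, rfl⟩
    have hj := j.2
    have hd' := d.2
    have hmem : x ^ (n - j.1) * y ^ j.1 ∈ m ^ n := by
      rw [show m = _ from hm]
      have hxy := Ideal.mul_mem_mul (Ideal.pow_mem_pow (show x ∈ Ideal.span {x, y} from Ideal.subset_span (by simp)) (n - j.1))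
        (Ideal.pow_mem_pow (show y ∈ Ideal.span {x, y} from Ideal.subset_span (by simp)) j.1)
      rwa [← pow_add, show n - j.1 + j.1 = n by omega] at hxy
    refine ⟨⟨_, hmem⟩, ?_⟩
    show q (dv _ hmem) = T ^ j.1
    rw [show T ^ j.1 = q (t ^ j.1) from (map_pow q t _).symm]
    refine congrArg q (hcancel _ _ ?_)
    rw [hdv, map_mul, map_pow, map_pow, ← hxt]
    calc xB ^ (n - j.1) * (xB * t) ^ j.1 = xB ^ (n - j.1 + j.1) * t ^ j.1 := by rw [pow_add, mul_pow]; ring
      _ = _ := by rw [show n - j.1 + j.1 = n by omega]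
  let μ : ↥(m ^ n) →ₗ[A] A ⧸ I := (Submodule.mkQ I).comp (Submodule.subtype (m ^ n))
  have hker : LinearMap.ker μ ≤ LinearMap.ker Φ := fun a ha => by
    have haI : a.1 ∈ I := (Submodule.Quotient.mk_eq_zero I).1 ha
    rw [LinearMap.mem_ker]
    refine (Ideal.Quotient.eq_zero_iff_mem).2 ((hmemJ _).2 ?_)
    rw [hdv]
    exact Ideal.mem_map_of_mem _ haI
  let χ : (↥(m ^ n) ⧸ LinearMap.ker μ) →ₗ[A] B ⧸ J := Submodule.liftQ _ Φ hker
  have hχ : Function.Surjective χ := fun z => by
    obtain ⟨a, rfl⟩ := hΦsurj z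
    exact ⟨Submodule.Quotient.mk a, rfl⟩
  have hproper : LinearMap.range μ ≠ ⊤ := by
    intro h
    obtain ⟨a, ha⟩ := LinearMap.mem_range.1 (h ▸ Submodule.mem_top : (Submodule.Quotient.mk 1 : A ⧸ I) ∈ _)
    have h1 : a.1 - 1 ∈ I := (Submodule.Quotient.eq I).1 ha
    have h2 : (1 : A) ∈ m ^ n := by
      have := sub_mem a.2 (hnI h1)
      rwa [sub_sub_cancel] at this
    exact (IsLocalRing.notMem_maximalIdeal.2 isUnit_one) (Ideal.pow_le_self (by omega) h2)
  calc Module.length B (B ⧸ J) ≤ Module.length A (B ⧸ J) := by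
        rw [← Module.length_top (R := B), ← Module.length_top (R := A)]
        exact Submodule.length_le_length_restrictScalars A (⊤ : Submodule B (B ⧸ J))
    _ ≤ Module.length A (↥(m ^ n) ⧸ LinearMap.ker μ) := Module.length_le_of_surjective χ hχ
    _ = Module.length A (LinearMap.range μ) := (LinearMap.quotKerEquivRange μ).length_eq
    _ < Module.length A (A ⧸ I) := Submodule.length_lt hproper

end Groth.Agent.PointBlowUp
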