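import Groth.Agent.Lib.PointBlowUp32.Local
import Groth.Agent.Lib.PointBlowUp32.Colength
import Groth.Agent.Lib.DivDesc12.Sheaf
import Groth.Agent.Lib.DivDesc12.Point
import Groth.Agent.Lib.EffCartier.Mul
import Mathlib

/-!
# Ideals supported on finitely many regular points become invertible after point blowups
-/

set_option autoImplicit false
set_option linter.style.haveILetI false
set_option linter.unusedSectionVars false
set_option backward.isDefEq.respectTransparency false
set_option maxHeartbeats 1000000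

universe u

open CategoryTheory CategoryTheory.Limits AlgebraicGeometry TopologicalSpace

noncomputable section

namespace Groth.Agent.PointBlowUp

open Groth.Agent.DivDesc12 (stI stI_eq stI_comap stI_sp sp primeAt)

variable {X Y : Scheme.{u}}

theorem stI_mul' (I J : X.IdealSheafData) (x : X) : stI (I * J) x = stI I x * stI J x := by
  obtain ⟨U, hU, hx⟩ := DivDesc12.exists_affine x
  rw [stI_eq _ ⟨U, hU⟩ hx, stI_eq _ ⟨U, hU⟩ hx, stI_eq _ ⟨U, hU⟩ hx,
    Scheme.IdealSheafData.ideal_mul, Pi.mul_apply, Ideal.map_mul]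

theorem stI_pow' (I : X.IdealSheafData) (x : X) : ∀ n : ℕ, stI (I ^ n) x = stI I x ^ n
  | 0 => by rw [pow_zero, pow_zero, Scheme.IdealSheafData.one_eq_top, DivDesc12.stI_top, Ideal.one_eq_top]
  | n + 1 => by rw [pow_succ, pow_succ, stI_mul', stI_pow' I x n]

theorem mem_support_iff_stI {I : X.IdealSheafData} {x : X} : x ∈ I.support ↔ stI I x ≠ ⊤ := by
  obtain ⟨U, hU, hxU⟩ := DivDesc12.exists_affine x
  rw [Scheme.IdealSheafData.mem_support_iff_of_mem (U := ⟨U, hU⟩) hxU, Scheme.mem_zeroLocus_iff,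
    stI_eq _ ⟨U, hU⟩ hxU]
  constructor
  · intro h e
    have hle : (I.ideal ⟨U, hU⟩).map (X.presheaf.germ U x hxU).hom ≤ IsLocalRing.maximalIdeal _ := by
      rw [Ideal.map_le_iff_le_comap]
      intro a ha
      show _ ∈ IsLocalRing.maximalIdeal _
      rw [IsLocalRing.mem_maximalIdeal, mem_nonunits_iff]
      exact fun hu => h a ha ((X.mem_basicOpen a x hxU).2 hu)
    rw [e, top_le_iff] at hle
    exact (IsLocalRing.maximalIdeal.isMaximal _).ne_top hle
  · intro h a ha hxa
    exact h (Ideal.eq_top_of_isUnit_mem _ (Ideal.mem_map_of_mem _ ha) ((X.mem_basicOpen a x hxU).1 hxa))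

theorem idealSheaf_le_of_stI {I J : X.IdealSheafData} (h : ∀ x, stI I x ≤ stI J x) : I ≤ J := fun V =>
  DivDesc12.ideal_le_of_germ V _ _ fun x hx => by
    rw [← stI_eq, ← stI_eq]
    exact h x

theorem stI_ptIdeal {y : X} (hy : IsClosed ({y} : Set X)) :
    stI (ptIdeal hy) y = IsLocalRing.maximalIdeal (X.presheaf.stalk y) := by
  obtain ⟨U, hU, hxU⟩ := DivDesc12.exists_affine y
  rw [stI_eq _ ⟨U, hU⟩ hxU]
  exact map_germ_vanishing hy ⟨U, hU⟩ hxU

/-- The colength at a point. -/
def colen (I : X.IdealSheafData) (x : X) : ℕ∞ :=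
  Module.length (X.presheaf.stalk x) (X.presheaf.stalk x ⧸ stI I x)

theorem colen_eq_zero {I : X.IdealSheafData} {x : X} (h : colen I x = 0) : stI I x = ⊤ := by
  rw [colen, Module.length_eq_zero_iff] at h
  exact Ideal.Quotient.subsingleton_iff.1 h

theorem length_quotient_ringEquiv {R S : Type u} [CommRing R] [CommRing S] (e : R ≃+* S) (I : Ideal R)
    (J : Ideal S) (h : I.map (e : R →+* S) = J) : Module.length R (R ⧸ I) = Module.length S (S ⧸ J) := by
  letI := (e : R →+* S).toAlgebra
  let g : (R ⧸ I) ≃ₗ[R] (S ⧸ J) :=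
    { Ideal.quotientEquiv I J e h.symm with
      map_smul' := fun r x => by
        obtain ⟨x, rfl⟩ := Ideal.Quotient.mk_surjective x
        show Ideal.Quotient.mk J (e (r * x)) = (algebraMap R (S ⧸ J) r) * Ideal.Quotient.mk J (e x)
        rw [map_mul, map_mul]
        rfl }
  rw [g.length_eq, Module.length_eq_of_surjective (R := S) (S := R) e.surjective]

theorem exists_pow_le_stI [IsLocallyNoetherian X] {I : X.IdealSheafData} {y : X}
    (h : ∀ x', x' ⤳ y → x' ∈ I.support → x' = y) :
    ∃ N, IsLocalRing.maximalIdeal (X.presheaf.stalk y) ^ N ≤ stI I y := by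
  have hrad : IsLocalRing.maximalIdeal (X.presheaf.stalk y) ≤ (stI I y).radical := by
    rw [Ideal.radical_eq_sInf]
    refine le_sInf fun q ⟨hle, hq⟩ => ?_
    haveI := hq
    obtain ⟨x', hx', rfl⟩ := DivDesc12.exists_primeAt_eq y q
    have hmem : x' ∈ I.support := by
      rw [mem_support_iff_stI, ← stI_sp I hx']
      intro e
      have : (stI I y).map (sp hx') ≤ IsLocalRing.maximalIdeal _ := Ideal.map_le_iff_le_comap.2 hle
      rw [e, top_le_iff] at this
      exact (IsLocalRing.maximalIdeal.isMaximal _).ne_top this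
    obtain rfl := h x' hx' hmem
    rw [DivDesc12.primeAt_self]
  exact Ideal.exists_pow_le_of_le_radical_of_fg hrad (IsNoetherian.noetherian _)

/-- Effective Cartier divisors stay so along a sequence of point blowups. -/
theorem isEffCartierIdeal_comap_seq {g : X ⟶ Y} (hg : Models.IsContractionSeq g) {D : Y.IdealSheafData}
    (hD : BlowUp.IsEffCartierIdeal D) : BlowUp.IsEffCartierIdeal (D.comap g) := by
  induction hg with
  | iso e => exact BlowUpExist.isEffCartierIdeal_comap_of_isOpenImmersion hD e.hom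
  | step ι b r _ _ hb _ ih =>
    rw [Scheme.IdealSheafData.comap_comp]
    obtain ⟨-, -, y, hy, -, -, -, hblow⟩ := hb
    exact BlowUp26.isEffCartierIdeal_comap_blowUp hblow (ih hD)

/-- The hypotheses on the finite set of centres. -/
def GoodPts (X : Scheme.{u}) (T : Set X) : Prop :=
  ∀ x ∈ T, IsClosed ({x} : Set X) ∧ IsRegularLocalRing (X.presheaf.stalk x) ∧ ringKrullDim (X.presheaf.stalk x) = 2

/-- The statement proved by induction. -/
def Principalizes (X : Scheme.{u}) (T : Set X) (hTc : IsClosed T) (I : X.IdealSheafData) : Prop :=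
  ∃ (X' : Scheme.{u}) (g : X' ⟶ X), Models.IsContractionSeq g ∧
    IsIso (g ∣_ (⟨Tᶜ, hTc.isOpen_compl⟩ : X.Opens)) ∧ BlowUp.IsEffCartierIdeal (I.comap g)

theorem not_isNilpotent_maximal {A : Type u} [CommRing A] [IsLocalRing A] (h : ringKrullDim A = 2) :
    ¬ IsNilpotent (IsLocalRing.maximalIdeal A) := by
  rintro ⟨N, hN⟩
  haveI : Ring.KrullDimLE 0 A := Ring.krullDimLE_zero_iff.2 fun P hP => by
    have hle : IsLocalRing.maximalIdeal A ≤ P := by
      intro a ha
      refine hP.mem_of_pow_mem N ?_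
      have := Ideal.pow_mem_pow ha N
      rw [hN] at this
      exact (Ideal.mem_bot.1 this) ▸ P.zero_mem
    rw [show P = IsLocalRing.maximalIdeal A from le_antisymm (IsLocalRing.le_maximalIdeal hP.ne_top) hle]
    exact IsLocalRing.maximalIdeal.isMaximal A
  have h0 : ringKrullDim A ≤ (0 : ℕ) := (Order.krullDimLE_iff 0 _).1 inferInstance
  rw [h] at h0
  exact absurd h0 (by decide)

/-- One blowing up. -/
theorem exists_step [IsNoetherian Y] {T : Set Y} (hTf : T.Finite) (hT : GoodPts Y T) {I : Y.IdealSheafData}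
    (hI : (I.support : Set Y) ⊆ T) {y : Y} (hyT : y ∈ T) (hyI : stI I y ≠ ⊤) :
    ∃ (X : Scheme.{u}) (_ : IsNoetherian X) (f : X ⟶ Y) (J D : X.IdealSheafData) (T' : Set X),
      T'.Finite ∧ IsClosed T' ∧ GoodPts X T' ∧ (J.support : Set X) ⊆ T' ∧ BlowUp.IsEffCartierIdeal D ∧
      I.comap f = D * J ∧ BlowUp.IsBlowUp f (ptIdeal (hT y hyT).1) ∧
      (∀ p ∈ T', f p ∈ T) ∧
      (∀ p ∈ T', f p = y → colen J p < colen I y) ∧
      (∀ p, f p ≠ y → colen J p = colen I (f p)) := by
  classical
  obtain ⟨hy, hreg, hdim⟩ := hT y hyT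
  haveI := hreg
  obtain ⟨X, f, hf⟩ : ∃ (X : Scheme.{u}) (f : X ⟶ Y), BlowUp.IsBlowUp f (ptIdeal hy) :=
    ⟨_, _, BlowUpExist.ChartIdx.isBlowUp_blowUpHom (C := ptIdeal hy)⟩
  haveI := isProper hy hf
  haveI : IsLocallyNoetherian X := LocallyOfFiniteType.isLocallyNoetherian f
  haveI : CompactSpace X := QuasiCompact.compactSpace_of_compactSpace f
  haveI hXN : IsNoetherian X := {}
  obtain ⟨N, hN⟩ := exists_pow_le_stI (I := I) (y := y) fun x' hx' hmem =>
    (hx'.mem_closed (hT x' (hI hmem)).1 rfl : y = x').symm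
  obtain ⟨n, hn1, hnI, hn⟩ := exists_order (not_isNilpotent_maximal hdim) hyI hN
  let D := BlowUp.exceptional f (ptIdeal hy) ^ n
  have hD : BlowUp.IsEffCartierIdeal D := BlowUpExist.isEffCartierIdeal_pow hf.1 n
  -- the stalks
  have hoff : ∀ p, f p ≠ y → stI D p = ⊤ := fun p hp => by
    have h : stI (BlowUp.exceptional f (ptIdeal hy)) p = ⊤ :=
      not_not.1 fun e => hp ((mem_support_exceptional hy f p).1 (mem_support_iff_stI.2 e))
    rw [stI_pow', h]
    exact Ideal.top_pow _ n
  have hcomap : ∀ (K : Y.IdealSheafData) (p : X) (hp : f p = y),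
      stI (K.comap f) p = (stI K y).map (sigma f hp) := fun K p hp => by
    subst hp
    rw [stI_comap, ← Ideal.map_map]
    congr 1
    rw [stI_sp]
  have hon : ∀ p (hp : f p = y), stI D p = ((IsLocalRing.maximalIdeal (Y.presheaf.stalk y)) ^ n).map (sigma f hp) :=
    fun p hp => by
    rw [stI_pow', hcomap _ p hp, stI_ptIdeal hy, Ideal.map_pow]
  have hle : I.comap f ≤ D := idealSheaf_le_of_stI fun p => by
    by_cases hp : f p = y
    · rw [hcomap I p hp, hon p hp]
      exact Ideal.map_mono hnI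
    · rw [hoff p hp]; exact le_top
  let J := EffCartier.colon (I.comap f) hD
  have hJD : I.comap f = D * J := by rw [mul_comm]; exact (EffCartier.colon_mul hD hle).symm
  have hmul : ∀ p, stI (I.comap f) p = stI D p * stI J p := fun p => by rw [hJD]; exact stI_mul' D J p
  -- away from the centre
  let U : Y.Opens := ⟨{y}ᶜ, hy.isOpen_compl⟩
  haveI : IsIso (f ∣_ U) := isIso_restrict hy hf
  have hiso : ∀ p, f p ≠ y → IsIso (f.stalkMap p) := fun p hp => by
    haveI : IsOpenImmersion (f ∣_ U) := IsOpenImmersion.of_isIso _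
    have h1 : IsIso ((f ∣_ U).stalkMap ⟨p, hp⟩) := inferInstance
    exact ((MorphismProperty.isomorphisms CommRingCat.{u}).arrow_mk_iso_iff
      (morphismRestrictStalkMap f U ⟨p, hp⟩)).1 h1
  have hcol : ∀ p, f p ≠ y → colen J p = colen I (f p) := fun p hp => by
    haveI := hiso p hp
    refine (length_quotient_ringEquiv (asIso (f.stalkMap p)).commRingCatIsoToRingEquiv (stI I (f p)) (stI J p) ?_).symm
    have h := hmul p
    rw [hoff p hp, Ideal.top_mul, stI_comap] at h
    exact h
  -- over the centre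
  have hlt : ∀ p, f p = y → colen J p < colen I y := fun p hp => by
    obtain ⟨x, v, t, hm, hxt, hnz, hgen⟩ := exists_coordinates f hy hdim hf hp
    letI : Algebra (Y.presheaf.stalk y) (X.presheaf.stalk p) := (sigma f hp).toAlgebra
    refine (colength_lt x v hm t hxt hnz hgen (stI I y) N hN n hn1 hnI hn (stI J p) ?_).1
    show (stI I y).map (sigma f hp) = Ideal.span {sigma f hp x ^ n} * stI J p
    rw [← hcomap I p hp, hmul p, hon p hp]
    congr 1
    rw [Ideal.map_pow, ← Ideal.span_singleton_pow]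
    congr 1
    rw [hm, Ideal.map_span]
    refine le_antisymm (Ideal.span_le.2 ?_) (Ideal.span_mono (by simp))
    rintro _ ⟨a, ha, rfl⟩
    rcases ha with rfl | rfl
    · exact Ideal.mem_span_singleton_self _
    · exact Ideal.mem_span_singleton'.2 ⟨t, by rw [mul_comm]; exact hxt⟩
  have hclosed : ∀ p, f p = y → p ∈ J.support → IsClosed ({p} : Set X) := fun p hp hpJ => by
    obtain ⟨c, hc, hcc⟩ := (isClosed_closure (s := ({p} : Set X))).exists_closed_singleton ⟨p, subset_closure rfl⟩
    have hpc : p ⤳ c := specializes_iff_mem_closure.2 hc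
    have hcy : f c = y := ((hpc.map f.continuous).mem_closed hy hp : f c = y)
    have hfin : Module.length (X.presheaf.stalk c) (X.presheaf.stalk c ⧸ stI J c) ≠ ⊤ := (hlt c hcy).ne_top
    obtain ⟨-, hart⟩ := isFiniteLength_iff_isNoetherian_isArtinian.1 (Module.length_ne_top_iff.1 hfin)
    haveI := hart
    haveI : IsArtinianRing (X.presheaf.stalk c ⧸ stI J c) := isArtinian_of_tower (X.presheaf.stalk c) inferInstance
    have hle : stI J c ≤ primeAt hpc := Ideal.map_le_iff_le_comap.1 (by
      rw [stI_sp]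
      exact IsLocalRing.le_maximalIdeal (mem_support_iff_stI.1 hpJ))
    haveI : (primeAt hpc).IsPrime := Ideal.IsPrime.comap _
    have hker : RingHom.ker (Ideal.Quotient.mk (stI J c)) ≤ primeAt hpc := by rw [Ideal.mk_ker]; exact hle
    haveI : ((primeAt hpc).map (Ideal.Quotient.mk (stI J c))).IsPrime :=
      Ideal.map_isPrime_of_surjective Ideal.Quotient.mk_surjective hker
    haveI := IsArtinianRing.isMaximal_of_isPrime ((primeAt hpc).map (Ideal.Quotient.mk (stI J c)))
    have hmax : (primeAt hpc).IsMaximal := by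
      have h := Ideal.comap_isMaximal_of_surjective (Ideal.Quotient.mk (stI J c)) Ideal.Quotient.mk_surjective
        (K := (primeAt hpc).map (Ideal.Quotient.mk (stI J c)))
      rwa [Ideal.comap_map_of_surjective _ Ideal.Quotient.mk_surjective, ← RingHom.ker_eq_comap_bot,
        sup_eq_left.2 hker] at h
    have heq : p = c := DivDesc12.eq_of_primeAt_eq specializes_rfl hpc
      (by rw [DivDesc12.primeAt_self]; exact IsLocalRing.eq_maximalIdeal hmax)
    rw [heq]
    exact hcc
  let T' : Set X := {p | f p ∈ T ∧ f p ≠ y} ∪ {p | f p = y ∧ p ∈ J.support}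
  have hg1 : ∀ p, f p ∈ T → f p ≠ y → IsClosed ({p} : Set X) := fun p hpT hp => by
    have : f ⁻¹' {f p} = {p} := Set.Subset.antisymm (fun a ha => eq_of_ne hy hf (by rw [show f a = f p from ha]; exact hp) ha)
      (Set.singleton_subset_iff.2 rfl)
    rw [← this]
    exact (hT _ hpT).1.preimage f.continuous
  have hgood : GoodPts X T' := by
    rintro p (⟨hpT, hp⟩ | ⟨hp, hpJ⟩)
    · haveI := hiso p hp
      haveI := (hT _ hpT).2.1
      let e := (asIso (f.stalkMap p)).commRingCatIsoToRingEquiv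
      exact ⟨hg1 p hpT hp, IsRegularLocalRing.of_ringEquiv e,
        (ringKrullDim_eq_of_ringEquiv e).symm.trans (hT _ hpT).2.2⟩
    · exact ⟨hclosed p hp hpJ, (regular_of_over f hy hdim hf hp).1,
        ringKrullDim_of_over f hy hdim hf hp (hclosed p hp hpJ)⟩
  have hfin1 : {p | f p ∈ T ∧ f p ≠ y}.Finite :=
    Set.Finite.of_finite_image (hTf.subset (by rintro _ ⟨p, hp, rfl⟩; exact hp.1))
      fun a ha b _ h => eq_of_ne hy hf ha.2 h
  have hfin2 : {p | f p = y ∧ p ∈ J.support}.Finite := by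
    have hZ : IsClosed {p | f p = y ∧ p ∈ J.support} := (hy.preimage f.continuous).inter J.support.isClosed
    obtain ⟨S, hS, hS1, hS2, hSeq⟩ := NoetherianSpace.exists_finite_set_isClosed_irreducible hZ
    haveI : Finite S := hS
    refine (Set.finite_range fun T : S => (hS2 T.1 T.2).genericPoint).subset fun a ha => ?_
    obtain ⟨T, hT', haT⟩ := Set.mem_sUnion.1 (hSeq ▸ ha : a ∈ ⋃₀ S)
    refine ⟨⟨T, hT'⟩, ?_⟩
    have hg := (hS2 T hT').isGenericPoint_genericPoint (hS1 T hT')
    have hmem : (hS2 T hT').genericPoint ∈ {p | f p = y ∧ p ∈ J.support} := hSeq ▸ Set.mem_sUnion_of_mem hg.mem hT'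
    exact ((hg.specializes haT).mem_closed (hclosed _ hmem.1 hmem.2) rfl).symm
  have hT'c : IsClosed T' := by
    have : T' = ⋃ p ∈ T', {p} := (Set.biUnion_of_singleton T').symm
    rw [this]
    exact (hfin1.union hfin2).isClosed_biUnion fun p hp => (hgood p hp).1
  refine ⟨X, hXN, f, J, D, T', hfin1.union hfin2, hT'c, hgood, fun p hpJ => ?_, hD, hJD, hf, ?_,
    fun p _ => hlt p, hcol⟩
  · by_cases hp : f p = y
    · exact Or.inr ⟨hp, hpJ⟩
    · refine Or.inl ⟨hI ?_, hp⟩
      rw [SetLike.mem_coe, mem_support_iff_stI]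
      intro e
      refine mem_support_iff_stI.1 hpJ (colen_eq_zero ?_)
      rw [hcol p hp, colen, e, Module.length_eq_zero_iff]
      exact Ideal.Quotient.subsingleton_iff.2 rfl
  · rintro p (⟨hpT, -⟩ | ⟨hp, -⟩)
    · exact hpT
    · rw [hp]; exact hyT

/-- Ideals supported on finitely many regular points become invertible after point blowups. -/
theorem principalizes (N : ℕ) : ∀ (Y : Scheme.{u}) [IsNoetherian Y] (T : Set Y) (_ : T.Finite)
    (hTc : IsClosed T), GoodPts Y T → ∀ I : Y.IdealSheafData, (I.support : Set Y) ⊆ T →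
    (∀ y ∈ T, colen I y ≤ N) → Principalizes Y T hTc I := by
  induction N with
  | zero =>
    intro Y _ T hTf hTc hT I hI hN
    have htop : I = ⊤ := DivDesc12.idealSheaf_ext_of_stI fun x => by
      rw [DivDesc12.stI_top]
      by_cases hx : x ∈ T
      · exact colen_eq_zero (nonpos_iff_eq_zero.1 (by simpa using hN x hx))
      · exact not_not.1 fun h => hx (hI (mem_support_iff_stI.2 h))
    refine ⟨Y, 𝟙 Y, Models.IsContractionSeq.iso (Iso.refl Y), ?_, ?_⟩
    · rw [morphismRestrict_id]; infer_instance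
    · rw [Scheme.IdealSheafData.comap_id, htop]
      exact EffCartier.isEffCartierIdeal_top
  | succ N ihN =>
    suffices H : ∀ (k : ℕ) (Y : Scheme.{u}) [IsNoetherian Y] (T : Set Y) (hTf : T.Finite) (hTc : IsClosed T),
        GoodPts Y T → ∀ I : Y.IdealSheafData, (I.support : Set Y) ⊆ T → (∀ y ∈ T, colen I y ≤ (N + 1 : ℕ)) →
        {y ∈ T | colen I y = (N + 1 : ℕ)}.ncard ≤ k → Principalizes Y T hTc I by
      intro Y _ T hTf hTc hT I hI hN
      exact H _ Y T hTf hTc hT I hI hN le_rfl
    intro k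
    induction k with
    | zero =>
      intro Y _ T hTf hTc hT I hI hN hk
      refine ihN Y T hTf hTc hT I hI fun y hy => ?_
      have h0 := (Set.ncard_eq_zero (hTf.subset (Set.sep_subset _ _))).1 (Nat.le_zero.1 hk)
      have hne : colen I y ≠ (N + 1 : ℕ) := fun e => h0.subset ⟨hy, e⟩
      have hlt := lt_of_le_of_ne (hN y hy) hne
      obtain ⟨m, hm⟩ := ENat.ne_top_iff_exists.1 hlt.ne_top
      rw [← hm] at hlt ⊢
      have : m < N + 1 := by exact_mod_cast hlt
      exact_mod_cast Nat.lt_succ_iff.1 this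
    | succ k ihk =>
      intro Y _ T hTf hTc hT I hI hN hk
      by_cases hle : {y ∈ T | colen I y = (N + 1 : ℕ)}.ncard ≤ k
      · exact ihk Y T hTf hTc hT I hI hN hle
      obtain ⟨y, hyT, hy⟩ := Set.nonempty_of_ncard_ne_zero
        (show {y ∈ T | colen I y = (N + 1 : ℕ)}.ncard ≠ 0 by omega)
      have hyI : stI I y ≠ ⊤ := fun e => by
        have hh := hy
        rw [colen, e, Module.length_eq_zero_iff.2 (Ideal.Quotient.subsingleton_iff.2 rfl)] at hh
        exact_mod_cast hh
      obtain ⟨X, hXN, f, J, D, T', hT'f, hT'c, hT', hJ, hD, hID, hf, himg, hlt, hcol⟩ := exists_step hTf hT hI hyT hyI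
      have hbound : ∀ p ∈ T', colen J p ≤ (N + 1 : ℕ) := fun p hp => by
        by_cases hpy : f p = y
        · exact (hlt p hp hpy).le.trans (hN y hyT)
        · rw [hcol p hpy]; exact hN _ (himg p hp)
      have hne : ∀ p ∈ T', colen J p = (N + 1 : ℕ) → f p ≠ y := fun p hp h hpy => by
        have := hlt p hp hpy
        rw [h, hy] at this
        exact lt_irrefl _ this
      have hcard : {p ∈ T' | colen J p = (N + 1 : ℕ)}.ncard ≤ k := by
        have hsub : f '' {p ∈ T' | colen J p = (N + 1 : ℕ)} ⊆ {w ∈ T | colen I w = (N + 1 : ℕ)} \ {y} := by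
          rintro _ ⟨p, ⟨hp, hpe⟩, rfl⟩
          exact ⟨⟨himg p hp, by rw [← hcol p (hne p hp hpe)]; exact hpe⟩, hne p hp hpe⟩
        have hinj : Set.InjOn f {p ∈ T' | colen J p = (N + 1 : ℕ)} := fun a ha b _ h =>
          eq_of_ne (hT y hyT).1 hf (hne a ha.1 ha.2) h
        rw [← Set.ncard_image_of_injOn hinj]
        refine (Set.ncard_le_ncard hsub ((hTf.subset (Set.sep_subset _ _)).subset Set.sdiff_subset)).trans ?_
        rw [Set.ncard_sdiff_singleton_of_mem (show y ∈ {w ∈ T | colen I w = (N + 1 : ℕ)} from ⟨hyT, hy⟩)]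
        omega
      obtain ⟨X', g, hg, hgi, hgJ⟩ := ihk X T' hT'f hT'c hT' J hJ hbound hcard
      obtain ⟨hyc, hreg, hdim⟩ := hT y hyT
      haveI := hreg
      refine ⟨X', g ≫ f, seq_comp hg f hyc hdim hf, ?_, ?_⟩
      · rw [morphismRestrict_comp]
        haveI : IsIso (f ∣_ (⟨{y}ᶜ, hyc.isOpen_compl⟩ : Y.Opens)) := isIso_restrict hyc hf
        haveI : IsIso (f ∣_ (⟨Tᶜ, hTc.isOpen_compl⟩ : Y.Opens)) :=
          isIso_restrict_le f (⟨{y}ᶜ, hyc.isOpen_compl⟩ : Y.Opens) _ fun w hw e => hw ((e : w = y) ▸ hyT)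
        haveI := hgi
        haveI : IsIso (g ∣_ f ⁻¹ᵁ (⟨Tᶜ, hTc.isOpen_compl⟩ : Y.Opens)) :=
          isIso_restrict_le g (⟨T'ᶜ, hT'c.isOpen_compl⟩ : X.Opens) _ fun w hw hwT' => hw (himg w hwT')
        infer_instance
      · rw [Scheme.IdealSheafData.comap_comp, hID, EffCartier.comap_mul]
        exact EffCartier.isEffCartierIdeal_mul (isEffCartierIdeal_comap_seq hg hD) hgJ

/-- Ideals supported on finitely many regular points become invertible after point blowups. -/
theorem exists_principalization (Y : Scheme.{u}) [IsNoetherian Y] (T : Set Y) (hTf : T.Finite)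
    (hTc : IsClosed T) (hT : GoodPts Y T) (I : Y.IdealSheafData) (hI : (I.support : Set Y) ⊆ T) :
    Principalizes Y T hTc I := by
  have hfin : ∀ y ∈ T, colen I y ≠ ⊤ := fun y hy => by
    obtain ⟨N, hN⟩ := exists_pow_le_stI (I := I) (y := y) fun x' hx' hmem =>
      (hx'.mem_closed (hT x' (hI hmem)).1 rfl : y = x').symm
    haveI := (isFiniteLength_quotient hN).1
    haveI := (isFiniteLength_quotient hN).2
    exact Module.length_ne_top
  refine principalizes (hTf.toFinset.sup fun y => (colen I y).toNat) Y T hTf hTc hT I hI fun y hy => ?_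
  rw [← ENat.coe_toNat (hfin y hy)]
  exact_mod_cast Finset.le_sup (f := fun y => (colen I y).toNat) (hTf.mem_toFinset.2 hy)

end Groth.Agent.PointBlowUp
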