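import Groth.Agent.Lib.PointBlowUp32.Dominate
import Groth.Agent.Lib.RegExt.Image
import Groth.Agent.Lib.RelMin32.Birat
import Groth.Agent.Lib.RelMin32.Factor
import Groth.Agent.S4440
import Mathlib

/-!
# Eliminating the indeterminacy of a rational map from a surface by point blowups
-/

set_option autoImplicit false
set_option linter.style.haveILetI false
set_option linter.unusedSectionVars false
set_option backward.isDefEq.respectTransparency false
set_option maxHeartbeats 1000000

universe u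

open CategoryTheory CategoryTheory.Limits AlgebraicGeometry TopologicalSpace

noncomputable section

namespace Groth.Agent.PointBlowUp

theorem eq_two_of_le {d : WithBot ℕ∞} (h1 : ¬ d ≤ 1) (h2 : d ≤ 2) : d = 2 := by
  refine le_antisymm h2 ?_
  induction d using WithBot.recBotCoe with
  | bot => exact absurd bot_le h1
  | coe a =>
    have h : ¬ a ≤ (1 : ℕ∞) := fun h => h1 (by exact_mod_cast h)
    have h' : (2 : ℕ∞) ≤ a := by
      have := Order.add_one_le_of_lt (not_le.1 h)
      exact le_of_eq_of_le (by norm_num) this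
    exact WithBot.coe_le_coe.2 h'

/-- The indeterminacy of a morphism to a proper scheme at finitely many regular points of a surface. -/
theorem exists_extend {X Z S : Scheme.{u}} [IsNoetherian X] [IsIntegral X] (c : X ⟶ S) (q : Z ⟶ S) [IsProper q]
    (U : X.Opens) (hfin : ((U : Set X)ᶜ).Finite) (hT : GoodPts X (U : Set X)ᶜ)
    (hne : (U : Set X).Nonempty) (g : (U : Scheme.{u}) ⟶ Z) (hg : g ≫ q = U.ι ≫ c) :
    ∃ (X' : Scheme.{u}) (b : X' ⟶ X) (h : X' ⟶ Z), Models.IsContractionSeq b ∧ h ≫ q = b ≫ c ∧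
      (b ⁻¹ᵁ U).ι ≫ h = (b ∣_ U) ≫ g := by
  classical
  let j : (U : Scheme.{u}) ⟶ pullback c q := pullback.lift U.ι g hg.symm
  haveI : QuasiCompact U.ι := by
    haveI : IsLocallyNoetherian X := inferInstance
    infer_instance
  haveI : QuasiCompact j := by
    haveI : QuasiCompact (j ≫ pullback.fst c q) := by
      rw [pullback.lift_fst]; infer_instance
    exact QuasiCompact.of_comp j (pullback.fst c q)
  haveI : Nonempty (U : Scheme.{u}) := hne.to_subtype
  haveI : IsIntegral (U : Scheme.{u}) := isIntegral_of_isOpenImmersion U.ι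
  haveI := RegExt.isIntegral_image j
  let f : j.image ⟶ X := j.imageι ≫ pullback.fst c q
  haveI : IsProper (pullback.fst c q) := MorphismProperty.pullback_fst _ _ inferInstance
  haveI : IsProper f := inferInstanceAs (IsProper (j.imageι ≫ pullback.fst c q))
  have hjf : j.toImage ≫ f = U.ι := by
    show _ ≫ _ ≫ _ = _
    rw [← Category.assoc, Scheme.Hom.toImage_imageι, pullback.lift_fst]
  have hr : Set.range j.toImage ⊆ Set.range (f ⁻¹ᵁ U).ι := by
    rintro _ ⟨w, rfl⟩
    rw [Scheme.Opens.range_ι]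
    show (j.toImage ≫ f) w ∈ U
    rw [hjf]; exact w.2
  let σ : (U : Scheme.{u}) ⟶ f ⁻¹ᵁ U := IsOpenImmersion.lift (f ⁻¹ᵁ U).ι j.toImage hr
  have hσ : σ ≫ (f ⁻¹ᵁ U).ι = j.toImage := IsOpenImmersion.lift_fac _ _ _
  have hσf : σ ≫ (f ∣_ U) = 𝟙 _ := by
    rw [← cancel_mono U.ι, Category.assoc, morphismRestrict_ι, ← Category.assoc, hσ, hjf, Category.id_comp]
  haveI : IsClosedImmersion σ := by
    haveI : IsClosedImmersion (σ ≫ (f ∣_ U)) := by rw [hσf]; infer_instance
    exact IsClosedImmersion.of_comp σ (f ∣_ U)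
  haveI : Surjective σ := ⟨by
    rw [← Set.range_eq_univ, ← σ.isClosedEmbedding.isClosed_range.closure_eq]
    refine Set.eq_univ_of_forall fun w => ?_
    rw [(f ⁻¹ᵁ U).ι.isOpenEmbedding.isInducing.closure_eq_preimage_closure_image, Set.mem_preimage, ← Set.range_comp]
    have e : ((f ⁻¹ᵁ U).ι : ↥(f ⁻¹ᵁ U) → j.image) ∘ σ = j.toImage := by
      funext v
      show (σ ≫ (f ⁻¹ᵁ U).ι) v = _
      rw [hσ]
    rw [e, j.toImage.denseRange.closure_range]
    exact Set.mem_univ _⟩
  haveI : IsReduced ((f ⁻¹ᵁ U : j.image.Opens) : Scheme.{u}) := inferInstance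
  haveI : IsIso σ := isIso_of_isClosedImmersion_of_surjective σ
  have hfU : IsIso (f ∣_ U) := by
    haveI : IsIso (σ ≫ (f ∣_ U)) := by rw [hσf]; infer_instance
    exact IsIso.of_isIso_comp_left σ (f ∣_ U)
  haveI := hfU
  obtain ⟨X', b, hb, -, h, hh⟩ := exists_dominate X (U : Set X)ᶜ hfin U.2.isClosed_compl hT f (by
    rw [show (⟨(U : Set X)ᶜᶜ, U.2.isClosed_compl.isOpen_compl⟩ : X.Opens) = U from Opens.ext (compl_compl _)]
    exact hfU)
  refine ⟨X', b, h ≫ j.imageι ≫ pullback.snd c q, hb, ?_, ?_⟩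
  · rw [Category.assoc, Category.assoc, ← pullback.condition, ← hh]
    simp only [f, Category.assoc]
  · have hr' : ∀ w, f (((b ⁻¹ᵁ U).ι ≫ h) w) ∈ U := fun w => by
      show (h ≫ f) ((b ⁻¹ᵁ U).ι w) ∈ U
      rw [hh]; exact w.2
    have key : (b ⁻¹ᵁ U).ι ≫ h = (b ∣_ U) ≫ j.toImage := by
      refine eq_of_over_open f U ?_ hr'
      rw [Category.assoc, hh, Category.assoc, hjf, morphismRestrict_ι]
    rw [← Category.assoc, key, Category.assoc, ← Category.assoc j.toImage, Scheme.Hom.toImage_imageι,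
      pullback.lift_snd]

/-- A rational map from a regular surface to a proper scheme extends after point blowups. -/
theorem exists_extend_rational {X Z S : Scheme.{u}} [IsNoetherian X] [IsIntegral X] [IsLocallyNoetherian S]
    (hreg : ∀ x : X, IsRegularLocalRing (X.presheaf.stalk x)) (hdim : RelMin.NoChain X)
    (c : X ⟶ S) (q : Z ⟶ S) [IsProper q]
    (U : X.Opens) (hU : (U : Set X).Nonempty) (φ : (U : Scheme.{u}) ⟶ Z) (hφ : φ ≫ q = U.ι ≫ c) :
    ∃ (X' : Scheme.{u}) (b : X' ⟶ X) (h : X' ⟶ Z), Models.IsContractionSeq b ∧ h ≫ q = b ≫ c ∧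
      (b ⁻¹ᵁ U).ι ≫ h = (b ∣_ U) ≫ φ := by
  classical
  obtain ⟨V, hUV, g, hg, hgφ, hV⟩ := S4440.result q c (fun y _ => hreg y) U (U.2.dense hU) φ hφ
  have hgood : GoodPts X (V : Set X)ᶜ := fun y hy => by
    haveI := hreg y
    have hle := RelMin.ringKrullDim_stalk_le hdim y
    have hnot : ¬ ringKrullDim (X.presheaf.stalk y) ≤ 1 := fun h => hy (hV y h)
    have heq : ringKrullDim (X.presheaf.stalk y) = 2 := eq_two_of_le hnot hle
    refine ⟨?_, hreg y, heq⟩
    refine isClosed_of_closure_subset fun z hz => ?_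
    by_contra hne
    have h1 := DivDesc12.ringKrullDim_stalk_lt (specializes_iff_mem_closure.2 hz) (Ne.symm hne)
    rw [heq] at h1
    exact absurd (lt_of_lt_of_le h1 (RelMin.ringKrullDim_stalk_le hdim z)) (lt_irrefl _)
  have hcl : IsClosed (V : Set X)ᶜ := V.2.isClosed_compl
  have hfin : ((V : Set X)ᶜ).Finite := by
    obtain ⟨S, hSf, hSc, hSi, hSeq⟩ := NoetherianSpace.exists_finite_set_isClosed_irreducible hcl
    rw [hSeq]
    refine hSf.sUnion fun A hA => ?_
    have hgp := (hSi A hA).isGenericPoint_genericPoint (hSc A hA)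
    have hmem : (hSi A hA).genericPoint ∈ (V : Set X)ᶜ := hSeq ▸ Set.mem_sUnion.2 ⟨A, hA, hgp.mem⟩
    refine (Set.finite_singleton (hSi A hA).genericPoint).subset fun z hz => ?_
    have hz' : z ∈ closure {(hSi A hA).genericPoint} := (Set.ext_iff.1 hgp.def z).2 hz
    rwa [(hgood _ hmem).1.closure_eq] at hz'
  obtain ⟨X', b, h, hb, hc, hag⟩ := exists_extend c q V hfin hgood (hU.mono hUV) g hg
  refine ⟨X', b, h, hb, hc, ?_⟩
  have h2 : (b ∣_ U) ≫ X.homOfLE hUV = X'.homOfLE (fun x hx => hUV hx) ≫ (b ∣_ V) := by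
    rw [← cancel_mono V.ι]
    simp only [Category.assoc, Scheme.homOfLE_ι, morphismRestrict_ι, Scheme.homOfLE_ι_assoc]
  rw [← Scheme.homOfLE_ι X' (show b ⁻¹ᵁ U ≤ b ⁻¹ᵁ V from fun x hx => hUV hx), Category.assoc, hag, ← Category.assoc,
    ← h2, Category.assoc, hgφ]

end Groth.Agent.PointBlowUp
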