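import Groth.Agent.Lib.PointBlowUp32.ProjPoint
import Groth.Agent.Lib.PointBlowUp32.Colength
import Groth.Agent.Lib.RegExt.Image
import Groth.Agent.Lib.RegLoc.UFD
import Groth.Agent.Lib.ProjSpace.BaseChange
import Groth.Agent.S0025
import Mathlib

/-!
# The indeterminacy ideal of a rational point of a proper scheme over a regular surface point
-/

set_option autoImplicit false
set_option linter.style.haveILetI false
set_option linter.unusedSectionVars false
set_option backward.isDefEq.respectTransparency false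
set_option maxHeartbeats 1000000

universe u

open CategoryTheory CategoryTheory.Limits AlgebraicGeometry

noncomputable section

namespace Groth.Agent.PointBlowUp

theorem ker_specMap_of_injective {B L : Type u} [CommRing B] [CommRing L] (ι : B →+* L) (h : Function.Injective ι) :
    (Spec.map (CommRingCat.ofHom ι)).ker = ⊥ := by
  refine Scheme.IdealSheafData.ext_of_isAffine ?_
  rw [Scheme.Hom.ker_apply]
  ext z
  obtain ⟨c, rfl⟩ := (ConcreteCategory.bijective_of_isIso (Scheme.ΓSpecIso (CommRingCat.of B)).inv).2 z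
  have hnat : (Spec.map (CommRingCat.ofHom ι)).appTop ((Scheme.ΓSpecIso (CommRingCat.of B)).inv c) =
      (Scheme.ΓSpecIso (CommRingCat.of L)).inv (ι c) :=
    (ConcreteCategory.congr_hom (Scheme.ΓSpecIso_inv_naturality (CommRingCat.ofHom ι)) c).symm
  simp only [RingHom.mem_ker]
  constructor
  · intro hz
    have h1 : (Scheme.ΓSpecIso (CommRingCat.of L)).inv (ι c) = 0 := hnat.symm.trans hz
    rw [map_eq_zero_iff _ (ConcreteCategory.bijective_of_isIso (Scheme.ΓSpecIso _).inv).1,
      map_eq_zero_iff _ h] at h1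
    simp [h1]
  · intro hz
    have h1 : (Scheme.ΓSpecIso (CommRingCat.of B)).inv c = 0 := by simpa using hz
    show (Spec.map (CommRingCat.ofHom ι)).appTop _ = 0
    rw [h1, map_zero]

variable {A : Type u} [CommRing A] [IsRegularLocalRing A]

/-- Coprime elements of a two-dimensional factorial local ring generate a primary ideal. -/
theorem exists_coprime_tuple (hA : ringKrullDim A = 2) {K : Type u} [Field K] [Algebra A K] [IsFractionRing A K]
    {m : ℕ} (a : Fin m → K) (i₀ : Fin m) (hi₀ : a i₀ = 1) :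
    ∃ d : Fin m → A, (∀ j, algebraMap A K (d j) = algebraMap A K (d i₀) * a j) ∧ d i₀ ≠ 0 ∧
      ∃ N, IsLocalRing.maximalIdeal A ^ N ≤ Ideal.span (Set.range d) := by
  classical
  haveI := RegLoc.isDomain A
  haveI := RegLoc.ufd_of_isRegularLocalRing A
  obtain ⟨c, hc⟩ := IsLocalization.exist_integer_multiples_of_finite (nonZeroDivisors A) a
  choose e he using hc
  have hne : ∃ x ∈ (Finset.univ : Finset (Fin m)), e x ≠ 0 := ⟨i₀, Finset.mem_univ _, fun h => by
    have h1 := he i₀
    rw [h, map_zero, hi₀, Algebra.smul_def, mul_one] at h1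
    exact nonZeroDivisors.coe_ne_zero c (IsFractionRing.injective A K (by rw [map_zero]; exact h1.symm))⟩
  letI : NormalizationMonoid A := Classical.choice inferInstance
  letI := UniqueFactorizationMonoid.toGCDMonoid A
  letI : NormalizedGCDMonoid A := UniqueFactorizationMonoid.toNormalizedGCDMonoid A
  obtain ⟨d, hd, hgcd⟩ := Finset.extract_gcd e (Finset.univ_nonempty_iff.2 ⟨i₀⟩)
  let g := Finset.univ.gcd e
  have hg : g ≠ 0 := fun h => by
    obtain ⟨x, hx, hx'⟩ := hne
    exact hx' ((Finset.gcd_eq_zero_iff.1 h) x hx)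
  have hed : ∀ j, e j = g * d j := fun j => hd j (Finset.mem_univ j)
  have hd0 : d i₀ ≠ 0 := fun h => by
    have h1 := he i₀
    rw [hed, h, mul_zero, map_zero, hi₀, Algebra.smul_def, mul_one] at h1
    exact nonZeroDivisors.coe_ne_zero c (IsFractionRing.injective A K (by rw [map_zero]; exact h1.symm))
  refine ⟨d, fun j => ?_, hd0, ?_⟩
  · have h1 := he j
    have h2 := he i₀
    rw [hed, map_mul, Algebra.smul_def] at h1 h2
    rw [hi₀, mul_one] at h2
    refine mul_left_cancel₀ (fun h => hg (IsFractionRing.injective A K (h.trans (map_zero _).symm))) ?_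
    rw [h1, ← mul_assoc, h2]
  · refine Ideal.exists_pow_le_of_le_radical_of_fg ?_ (IsNoetherian.noetherian _)
    rw [Ideal.radical_eq_sInf]
    refine le_sInf fun P ⟨hle, hP⟩ => ?_
    haveI := hP
    by_contra hne
    have hPm : P < IsLocalRing.maximalIdeal A :=
      lt_of_le_of_ne (IsLocalRing.le_maximalIdeal hP.ne_top) fun h => hne h.ge
    have hPbot : P ≠ ⊥ := fun h => hd0 (by simpa [h] using hle (Ideal.subset_span ⟨i₀, rfl⟩))
    obtain ⟨p, hpP, hp⟩ := hP.exists_mem_prime_of_ne_bot hPbot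
    have hspan : Ideal.span {p} = P := by
      by_contra hlt
      have h1 : Ideal.span {p} < P := lt_of_le_of_ne ((Ideal.span_singleton_le_iff_mem _).2 hpP) hlt
      have h0 : (⊥ : Ideal A) < Ideal.span {p} := bot_lt_iff_ne_bot.2 (by simpa using hp.ne_zero)
      haveI hpp : (Ideal.span {p}).IsPrime := (Ideal.span_singleton_prime hp.ne_zero).2 hp
      let s : LTSeries (PrimeSpectrum A) :=
        { length := 3
          toFun := ![⟨⊥, Ideal.isPrime_bot⟩, ⟨Ideal.span {p}, hpp⟩, ⟨P, hP⟩, IsLocalRing.closedPoint A]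
          step := fun i => by
            fin_cases i
            · exact h0
            · exact h1
            · exact hPm }
      have h := Order.LTSeries.length_le_krullDim s
      rw [show Order.krullDim (PrimeSpectrum A) = 2 from hA, show s.length = 3 from rfl] at h
      exact absurd h (by decide)
    refine hp.not_isUnit (isUnit_of_dvd_one (hgcd ▸ Finset.dvd_gcd fun j _ => Ideal.mem_span_singleton.1 ?_))
    rw [hspan]
    exact hle (Ideal.subset_span ⟨j, rfl⟩)

/-- A rational point of a proper scheme extends wherever its indeterminacy ideal becomes principal. -/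
theorem exists_indeterminacy_ideal (hA : ringKrullDim A = 2) {Y : Scheme.{u}} (s : Y ⟶ Spec (CommRingCat.of A))
    [IsProper s] {K : Type u} [Field K] [Algebra A K] [IsFractionRing A K] (p : Spec (CommRingCat.of K) ⟶ Y)
    (hp : p ≫ s = Spec.map (CommRingCat.ofHom (algebraMap A K))) :
    ∃ I : Ideal A, (∃ N, IsLocalRing.maximalIdeal A ^ N ≤ I) ∧
      ∀ {B : Type u} [CommRing B] [IsLocalRing B] {L : Type u} [Field L] (ι : B →+* L) (τ : K →+* L) (σ : A →+* B),
        Function.Injective ι → ι.comp σ = τ.comp (algebraMap A K) → (I.map σ).IsPrincipal →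
        ∃ r : Spec (CommRingCat.of B) ⟶ Y, r ≫ s = Spec.map (CommRingCat.ofHom σ) ∧
          Spec.map (CommRingCat.ofHom ι) ≫ r = Spec.map (CommRingCat.ofHom τ) ≫ p := by
  classical
  haveI : QuasiCompact p := by
    haveI : QuasiCompact (p ≫ s) := by rw [hp]; infer_instance
    exact QuasiCompact.of_comp p s
  haveI := RegExt.isIntegral_image p
  obtain ⟨n, X', π, j, hj, hjb, hπ, hπs, U, hU, hUiso⟩ := S0025.result (p.imageι ≫ s)
  haveI := hj
  haveI := hπ
  haveI := hUiso
  haveI : IsProper (j ≫ CohB1.ProjSpaceOver.toBase n _) := by rw [hjb]; infer_instance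
  haveI : IsSeparated (CohB1.ProjSpaceOver.toBase n (Spec (CommRingCat.of A))) := by
    rw [← show (ProjSpace.overSpecIso n A).inv ≫ CohB1.ProjSpace.toSpec n A =
      CohB1.ProjSpaceOver.toBase n (Spec (CommRingCat.of A)) from by
        rw [Iso.inv_comp_eq, ProjSpace.overSpecIso_hom_toBase]]
    infer_instance
  haveI : IsProper j := IsProper.of_comp j (CohB1.ProjSpaceOver.toBase n _)
  haveI : IsClosedImmersion j := (IsClosedImmersion.iff_isProper_and_mono _).2 ⟨inferInstance, inferInstance⟩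
  -- lift the point
  have hgenU : p.toImage (IsLocalRing.closedPoint K) ∈ U := by
    obtain ⟨w, hw⟩ := p.toImage.denseRange.exists_mem_open U.2 (hU.nonempty)
    rwa [Subsingleton.elim w (IsLocalRing.closedPoint K)] at hw
  have hrange : Set.range p.toImage ⊆ Set.range U.ι := by
    rintro _ ⟨x, rfl⟩
    rw [Subsingleton.elim x (IsLocalRing.closedPoint K), Scheme.Opens.range_ι]
    exact hgenU
  let p' : Spec (CommRingCat.of K) ⟶ X' :=
    IsOpenImmersion.lift U.ι p.toImage hrange ≫ inv (π ∣_ U) ≫ (π ⁻¹ᵁ U).ι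
  have hp' : p' ≫ π = p.toImage := by
    show (_ ≫ _ ≫ _) ≫ π = _
    rw [Category.assoc, Category.assoc, ← morphismRestrict_ι, IsIso.inv_hom_id_assoc, IsOpenImmersion.lift_fac]
  let q := p' ≫ j ≫ (ProjSpace.overSpecIso n A).inv
  have hinv : (ProjSpace.overSpecIso n A).inv ≫ CohB1.ProjSpace.toSpec n A =
      CohB1.ProjSpaceOver.toBase n (Spec (CommRingCat.of A)) := by
    rw [Iso.inv_comp_eq, ProjSpace.overSpecIso_hom_toBase]
  have hq : q ≫ CohB1.ProjSpace.toSpec n A = Spec.map (CommRingCat.ofHom (algebraMap A K)) := by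
    show (p' ≫ j ≫ _) ≫ _ = _
    simp only [Category.assoc]
    rw [hinv, hjb, reassoc_of% hp', Scheme.Hom.toImage_imageι_assoc, hp]
  obtain ⟨a, ⟨i₀, hi₀⟩, hext⟩ := exists_coords n q (algebraMap A K) hq
  obtain ⟨d, hd, hd0, N, hN⟩ := exists_coprime_tuple hA a i₀ hi₀
  refine ⟨Ideal.span (Set.range d), ⟨N, hN⟩, fun {B} _ _ {L} _ ι τ σ hι hcomp hpr => ?_⟩
  haveI : IsDomain B := hι.isDomain
  obtain ⟨e, he⟩ := hpr
  have he' : (Ideal.span (Set.range d)).map σ = Ideal.span {e} := he
  rw [Ideal.map_span, ← Set.range_comp] at he'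
  have hdiv : ∀ i, ∃ w, σ (d i) = w * e := fun i => by
    obtain ⟨w, hw⟩ := Ideal.mem_span_singleton'.1 (he' ▸ Ideal.subset_span ⟨i, rfl⟩ : σ (d i) ∈ Ideal.span {e})
    exact ⟨w, hw.symm⟩
  choose w hw using hdiv
  have hcomp' : ∀ x, ι (σ x) = τ (algebraMap A K x) := fun x => RingHom.congr_fun hcomp x
  have hσd0 : σ (d i₀) ≠ 0 := fun h => by
    have h1 := hcomp' (d i₀)
    rw [h, map_zero] at h1
    exact hd0 (IsFractionRing.injective A K (by rw [map_zero]; exact (map_eq_zero_iff τ τ.injective).1 h1.symm))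
  have he0 : e ≠ 0 := fun h => hσd0 (by rw [hw, h, mul_zero])
  obtain ⟨k, hk⟩ : ∃ k, IsUnit (w k) := by
    by_contra hno
    push Not at hno
    obtain ⟨c, hc⟩ := Ideal.mem_span_range_iff_exists_fun.1 (he' ▸ Ideal.mem_span_singleton_self e : e ∈ Ideal.span (Set.range (σ ∘ d)))
    have h1 : (∑ i, c i * w i) = 1 := by
      refine mul_right_cancel₀ he0 ?_
      rw [Finset.sum_mul, one_mul]
      refine (Finset.sum_congr rfl fun i _ => ?_).trans hc
      rw [Function.comp_apply, hw, mul_assoc]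
    have h2 : (∑ i, c i * w i) ∈ IsLocalRing.maximalIdeal B :=
      sum_mem fun i _ => Ideal.mul_mem_left _ _ ((IsLocalRing.mem_maximalIdeal _).2 (hno i))
    rw [h1] at h2
    exact (IsLocalRing.mem_maximalIdeal _).1 h2 isUnit_one
  obtain ⟨v, hv⟩ := hk
  have hτ : ∀ i, τ (a i) * ι (σ (d i₀)) = ι (σ (d i)) := fun i => by
    rw [hcomp', hcomp', hd i, map_mul, mul_comm]
  have hwk : ι (σ (d k)) ≠ 0 := fun h => he0 (by
    have h1 : σ (d k) = 0 := hι (by rw [h, map_zero])
    rw [hw, ← hv] at h1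
    exact (Units.mul_right_eq_zero v).1 h1)
  have hak : τ (a k) ≠ 0 := fun h => hwk (by rw [← hτ, h, zero_mul])
  obtain ⟨r, hr, hrι⟩ := hext k ι τ σ hcomp (fun i => w i * ↑v⁻¹) hak fun i => by
    refine mul_right_cancel₀ (fun h => hσd0 (hι (by rw [h, map_zero])) : ι (σ (d i₀)) ≠ 0) ?_
    rw [mul_assoc, hτ, hτ, ← map_mul]
    congr 1
    rw [hw k, ← hv, mul_assoc, ← mul_assoc (↑v⁻¹ : B), Units.inv_mul, one_mul, ← hw]
  -- the extension lands in the closed subscheme
  let r' : Spec (CommRingCat.of B) ⟶ CohB1.ProjSpaceOver n (Spec (CommRingCat.of A)) := r ≫ (ProjSpace.overSpecIso n A).hom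
  have hfac : Spec.map (CommRingCat.ofHom ι) ≫ r' = (Spec.map (CommRingCat.ofHom τ) ≫ p') ≫ j := by
    show _ ≫ r ≫ _ = _
    rw [← Category.assoc, hrι]
    show (_ ≫ p' ≫ j ≫ _) ≫ _ = _
    simp only [Category.assoc, Iso.inv_hom_id, Category.comp_id]
  have hle : j.ker ≤ r'.ker := by
    have h1 : (Spec.map (CommRingCat.ofHom ι) ≫ r').ker = r'.ker := by
      rw [Scheme.Hom.ker_comp, ker_specMap_of_injective ι hι, Scheme.IdealSheafData.map_bot]
    rw [← h1, hfac]
    exact Scheme.Hom.le_ker_comp _ _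
  let r₂ := IsClosedImmersion.lift j r' hle
  have hr₂ : r₂ ≫ j = r' := IsClosedImmersion.lift_fac _ _ _
  refine ⟨r₂ ≫ π ≫ p.imageι, ?_, ?_⟩
  · simp only [Category.assoc]
    rw [← hjb, ← Category.assoc, hr₂]
    show (r ≫ _) ≫ _ = _
    rw [Category.assoc, ProjSpace.overSpecIso_hom_toBase, hr]
  · have h2 : Spec.map (CommRingCat.ofHom ι) ≫ r₂ = Spec.map (CommRingCat.ofHom τ) ≫ p' := by
      rw [← cancel_mono j, Category.assoc, hr₂, hfac]
    rw [← Category.assoc, h2, Category.assoc, ← Category.assoc p', hp', Scheme.Hom.toImage_imageι]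

end Groth.Agent.PointBlowUp
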