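import Groth.Agent.Lib.PointBlowUp32.Principal
import Groth.Agent.Lib.PointBlowUp32.Extend
import Groth.Agent.Lib.HMNum19.Unique
import Mathlib.AlgebraicGeometry.SpreadingOut
import Mathlib

/-!
# Point blowups dominate modifications at regular points of a surface
-/

set_option autoImplicit false
set_option linter.style.haveILetI false
set_option linter.unusedSectionVars false
set_option backward.isDefEq.respectTransparency false
set_option maxHeartbeats 1000000

universe u

open CategoryTheory CategoryTheory.Limits AlgebraicGeometry TopologicalSpace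

noncomputable section

namespace Groth.Agent.PointBlowUp

open Groth.Agent.DivDesc12 (stI stI_eq stI_comap stI_sp sp)

variable {X Y : Scheme.{u}}

/-- Regularity propagates along point blowups. -/
theorem isRegularLocalRing_of_seq {g : X ⟶ Y} (hg : Models.IsContractionSeq g) :
    ∀ x : X, IsRegularLocalRing (Y.presheaf.stalk (g x)) → IsRegularLocalRing (X.presheaf.stalk x) := by
  induction hg with
  | iso e =>
    intro x hx
    haveI := hx
    exact IsRegularLocalRing.of_ringEquiv (asIso (e.hom.stalkMap x)).commRingCatIsoToRingEquiv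
  | @step Y₁ Z X₁ E ι b r _ _ hb _ ih =>
    intro x hx
    have hz : IsRegularLocalRing (Z.presheaf.stalk (b x)) := ih (b x) (by rwa [← Scheme.Hom.comp_apply])
    obtain ⟨hZ, -, y, hy, -, hreg, hdim, hblow⟩ := hb
    haveI := hreg
    by_cases hxy : b x = y
    · exact (regular_of_over b hy hdim hblow hxy).1
    · haveI := hz
      haveI := isIso_restrict hy hblow
      haveI : IsOpenImmersion (b ∣_ (⟨{y}ᶜ, hy.isOpen_compl⟩ : Z.Opens)) := IsOpenImmersion.of_isIso _
      have h1 : IsIso ((b ∣_ (⟨{y}ᶜ, hy.isOpen_compl⟩ : Z.Opens)).stalkMap ⟨x, hxy⟩) := inferInstance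
      haveI : IsIso (b.stalkMap x) := ((MorphismProperty.isomorphisms CommRingCat.{u}).arrow_mk_iso_iff
        (morphismRestrictStalkMap b (⟨{y}ᶜ, hy.isOpen_compl⟩ : Z.Opens) ⟨x, hxy⟩)).1 h1
      exact IsRegularLocalRing.of_ringEquiv (asIso (b.stalkMap x)).commRingCatIsoToRingEquiv

theorem isLocallyNoetherian_of_seq {g : X ⟶ Y} (hg : Models.IsContractionSeq g) :
    IsLocallyNoetherian Y → IsLocallyNoetherian X := by
  induction hg with
  | iso e => intro h; exact isLocallyNoetherian_of_isOpenImmersion e.hom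
  | step ι b r _ _ hb _ _ =>
    intro _
    haveI := hb.1
    haveI := hb.2.1
    exact LocallyOfFiniteType.isLocallyNoetherian b

theorem stI_prod {ι : Type*} (E : ι → X.IdealSheafData) (x : X) (s : Finset ι) :
    stI (∏ p ∈ s, E p) x = ∏ p ∈ s, stI (E p) x := by
  classical
  induction s using Finset.induction_on with
  | empty => rw [Finset.prod_empty, Finset.prod_empty, Scheme.IdealSheafData.one_eq_top, DivDesc12.stI_top, Ideal.one_eq_top]
  | insert p s hp ih => rw [Finset.prod_insert hp, Finset.prod_insert hp, stI_mul', ih]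

/-- An ideal of finite colength at a closed point is the stalk of an ideal sheaf. -/
theorem exists_sheaf_at [IsLocallyNoetherian X] {y : X} (hy : IsClosed ({y} : Set X))
    (I : Ideal (X.presheaf.stalk y)) {N : ℕ} (hN : IsLocalRing.maximalIdeal (X.presheaf.stalk y) ^ N ≤ I) :
    ∃ K : X.IdealSheafData, stI K y = I ∧ ∀ x, x ≠ y → stI K x = ⊤ := by
  classical
  obtain ⟨U, hU, hyU⟩ := DivDesc12.exists_affine y
  let i := Spec.map (CommRingCat.ofHom (Ideal.Quotient.mk I)) ≫ X.fromSpecStalk y
  have hpt : ∀ P, i P = y := fun P => by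
    show X.fromSpecStalk y (Spec.map (CommRingCat.ofHom (Ideal.Quotient.mk I)) P) = y
    refine Eq.trans (congrArg (X.fromSpecStalk y) ?_) Scheme.fromSpecStalk_closedPoint
    refine PrimeSpectrum.ext ?_
    show (P : PrimeSpectrum (X.presheaf.stalk y ⧸ I)).asIdeal.comap (Ideal.Quotient.mk I) = IsLocalRing.maximalIdeal _
    haveI := (P : PrimeSpectrum (X.presheaf.stalk y ⧸ I)).isPrime
    haveI : ((P : PrimeSpectrum (X.presheaf.stalk y ⧸ I)).asIdeal.comap (Ideal.Quotient.mk I)).IsPrime :=
      Ideal.IsPrime.comap _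
    refine le_antisymm (IsLocalRing.le_maximalIdeal (Ideal.IsPrime.ne_top ‹_›)) fun a ha => ?_
    refine Ideal.IsPrime.mem_of_pow_mem ‹_› N ?_
    rw [Ideal.mem_comap, (Ideal.Quotient.eq_zero_iff_mem).2 (hN (Ideal.pow_mem_pow ha N))]
    exact Submodule.zero_mem _
  haveI : QuasiCompact i := by
    refine quasiCompact_iff _ |>.2 fun V _ _ => ?_
    by_cases h : y ∈ V
    · rw [show i ⁻¹' V = Set.univ from Set.eq_univ_of_forall fun P => by show i P ∈ V; rw [hpt P]; exact h]
      exact isCompact_univ
    · rw [show i ⁻¹' V = ∅ from Set.eq_empty_of_forall_notMem fun P hP => h (hpt P ▸ hP)]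
      exact isCompact_empty
  refine ⟨i.ker, ?_, fun x hx => ?_⟩
  · have hker : (i.ker.ideal ⟨U, hU⟩) = I.comap (X.presheaf.germ U y hyU).hom := by
      rw [Scheme.Hom.ker_apply]
      ext a
      have hle : (⊤ : (Spec (CommRingCat.of (X.presheaf.stalk y ⧸ I))).Opens) ≤ i ⁻¹ᵁ U := fun P _ => by
        show i P ∈ U
        rw [hpt P]; exact hyU
      have hinj : Function.Injective ((Spec (CommRingCat.of (X.presheaf.stalk y ⧸ I))).presheaf.map (homOfLE hle).op) := by
        have e : i ⁻¹ᵁ U = ⊤ := le_antisymm le_top hle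
        haveI : IsIso (homOfLE hle) := ⟨homOfLE le_top, Subsingleton.elim _ _, Subsingleton.elim _ _⟩
        exact (ConcreteCategory.bijective_of_isIso _).1
      show i.app U a = 0 ↔ X.presheaf.germ U y hyU a ∈ I
      rw [← (map_eq_zero_iff ((Spec (CommRingCat.of (X.presheaf.stalk y ⧸ I))).presheaf.map (homOfLE hle).op).hom hinj)]
      have h1 : i.appLE U ⊤ hle = X.presheaf.germ U y hyU ≫ CommRingCat.ofHom (Ideal.Quotient.mk I) ≫
          (Scheme.ΓSpecIso _).inv := by
        rw [Scheme.ΓSpecIso_inv_naturality, ← Category.assoc]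
        have h2 : (X.fromSpecStalk y).appLE U ⊤ (fun P _ => by
            have hz : X.fromSpecStalk y P ∈ Set.range (X.fromSpecStalk y) := ⟨P, rfl⟩
            rw [Scheme.range_fromSpecStalk] at hz
            exact (hz : X.fromSpecStalk y P ⤳ y).mem_open U.2 hyU) =
            X.presheaf.germ U y hyU ≫ (Scheme.ΓSpecIso (X.presheaf.stalk y)).inv := by
          rw [Scheme.Hom.appLE, Scheme.fromSpecStalk_app hyU]
          simp only [Category.assoc, ← Functor.map_comp]
          rw [show (Spec (X.presheaf.stalk y)).presheaf.map _ = 𝟙 _ from (congrArg _ (Subsingleton.elim _ (𝟙 _))).trans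
            ((Spec (X.presheaf.stalk y)).presheaf.map_id _), Category.comp_id]
        rw [← h2]
        rw [Scheme.Hom.appTop, Scheme.Hom.app_eq_appLE]
        exact (Scheme.Hom.appLE_comp_appLE _ _ _ _ _ _ _).symm
      show i.appLE U ⊤ hle a = 0 ↔ _
      rw [h1, CommRingCat.comp_apply, CommRingCat.comp_apply,
        map_eq_zero_iff _ (ConcreteCategory.bijective_of_isIso (Scheme.ΓSpecIso _).inv).1]
      exact Ideal.Quotient.eq_zero_iff_mem
    rw [stI_eq _ ⟨U, hU⟩ hyU, hker]
    letI := TopCat.Presheaf.algebra_section_stalk X.presheaf (⟨y, hyU⟩ : U)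
    haveI := hU.isLocalization_stalk ⟨y, hyU⟩
    exact IsLocalization.map_comap (hU.primeIdealOf ⟨y, hyU⟩).asIdeal.primeCompl _ I
  · by_contra h
    refine hx ?_
    have h1 : x ∈ (i.ker.support : Set X) := mem_support_iff_stI.2 h
    rw [Scheme.Hom.support_ker] at h1
    exact closure_minimal (Set.range_subset_iff.2 fun P => hpt P) hy h1

/-- Two lifts over the open where the modification is an isomorphism agree. -/
theorem eq_of_over_open {W : Scheme.{u}} (f : Y ⟶ X) (U : X.Opens) [IsIso (f ∣_ U)] {a b : W ⟶ Y}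
    (h : a ≫ f = b ≫ f) (hU : ∀ w, f (a w) ∈ U) : a = b := by
  have hr : ∀ c : W ⟶ Y, (∀ w, f (c w) ∈ U) → Set.range c ⊆ Set.range (f ⁻¹ᵁ U).ι := fun c hc => by
    rintro _ ⟨w, rfl⟩
    rw [Scheme.Opens.range_ι]
    exact hc w
  have hU' : ∀ w, f (b w) ∈ U := fun w => by rw [← Scheme.Hom.comp_apply, ← h]; exact hU w
  rw [← IsOpenImmersion.lift_fac (f ⁻¹ᵁ U).ι a (hr a hU), ← IsOpenImmersion.lift_fac (f ⁻¹ᵁ U).ι b (hr b hU')]
  congr 1
  rw [← cancel_mono (f ∣_ U), ← cancel_mono U.ι, Category.assoc, Category.assoc, morphismRestrict_ι,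
    ← Category.assoc, ← Category.assoc, IsOpenImmersion.lift_fac, IsOpenImmersion.lift_fac, h]

/-- Morphisms over the base agree if the base's exceptional set pulls back to a divisor. -/
theorem eq_of_cartier {W : Scheme.{u}} (f : Y ⟶ X) [IsSeparated f] (U : X.Opens) [IsIso (f ∣_ U)] (c : W ⟶ X)
    {D : W.IdealSheafData} (hD : BlowUp.IsEffCartierIdeal D) (hsupp : ∀ w, c w ∈ U ↔ w ∉ D.support)
    {a b : W ⟶ Y} (ha : a ≫ f = c) (hb : b ≫ f = c) : a = b := by
  haveI := EffCartier.dominant_cmpl hD
  let O := EffCartier.cmpl D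
  have hO : O.ι ≫ a = O.ι ≫ b := eq_of_over_open f U (by rw [Category.assoc, Category.assoc, ha, hb]) fun w => by
    have e : f ((O.ι ≫ a) w) = c (O.ι w) := by
      rw [← ha]; rfl
    rw [e]
    exact (hsupp _).2 w.2
  let f' : Over X := Over.mk f
  let W' : Over X := Over.mk c
  let O' : Over X := Over.mk (O.ι ≫ c)
  haveI : IsSeparated f'.hom := ‹IsSeparated f›
  haveI : IsSchemeTheoreticallyDominant (Over.homMk O.ι rfl : O' ⟶ W').left :=
    inferInstanceAs (IsSchemeTheoreticallyDominant O.ι)
  exact congrArg (fun t : W' ⟶ f' => t.left) (HMNum19.ext_of_isSchemeTheoreticallyDominant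
    (Over.homMk O.ι rfl : O' ⟶ W') (f := (Over.homMk a ha : W' ⟶ f')) (g := (Over.homMk b hb : W' ⟶ f')) (Over.OverMorphism.ext hO))

/-- Point blowups dominate proper modifications at finitely many regular points. -/
theorem exists_dominate (X : Scheme.{u}) [IsNoetherian X] (T : Set X) (hTf : T.Finite) (hTc : IsClosed T)
    (hT : GoodPts X T) {Y : Scheme.{u}} (f : Y ⟶ X) [IsProper f]
    (hf : IsIso (f ∣_ (⟨Tᶜ, hTc.isOpen_compl⟩ : X.Opens))) :
    ∃ (X' : Scheme.{u}) (g : X' ⟶ X), Models.IsContractionSeq g ∧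
      IsIso (g ∣_ (⟨Tᶜ, hTc.isOpen_compl⟩ : X.Opens)) ∧ ∃ h : X' ⟶ Y, h ≫ f = g := by
  classical
  let U : X.Opens := ⟨Tᶜ, hTc.isOpen_compl⟩
  haveI : IsIso (f ∣_ U) := hf
  -- the rational point at each centre
  have hcore : ∀ y : T, ∃ I : Ideal (X.presheaf.stalk y.1),
      (∃ N, IsLocalRing.maximalIdeal (X.presheaf.stalk y.1) ^ N ≤ I) ∧
      ∀ {B : Type u} [CommRing B] [IsLocalRing B] {L : Type u} [Field L] (ι : B →+* L)
        (σ : X.presheaf.stalk y.1 →+* B),
        Function.Injective ι → Function.Injective (ι.comp σ) → (I.map σ).IsPrincipal →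
        ∃ r : Spec (CommRingCat.of B) ⟶ Y,
          r ≫ f = Spec.map (CommRingCat.ofHom σ) ≫ X.fromSpecStalk y.1 := by
    rintro ⟨y, hy⟩
    obtain ⟨hyc, hreg, hdim⟩ := hT y hy
    haveI := hreg
    haveI := RegLoc.isDomain (X.presheaf.stalk y)
    let A := X.presheaf.stalk y
    let fs := X.fromSpecStalk y
    let η := Spec.map (CommRingCat.ofHom (algebraMap A (FractionRing A))) ≫ fs
    have hηU : ∀ v, η v ∈ U := fun v hv => by
      have h1 : η v ⤳ y := by
        have : η v ∈ Set.range fs := ⟨_, rfl⟩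
        rw [Scheme.range_fromSpecStalk] at this
        exact this
      have h2 : η v = y := (h1.mem_closed (hT _ hv).1 rfl : y = η v).symm
      have h3 : Spec.map (CommRingCat.ofHom (algebraMap A (FractionRing A))) v = IsLocalRing.closedPoint A :=
        fs.isEmbedding.injective (h2.trans Scheme.fromSpecStalk_closedPoint.symm)
      have h4 : (IsLocalRing.maximalIdeal A) = ⊥ := by
        have := congrArg PrimeSpectrum.asIdeal h3
        rw [show (Spec.map (CommRingCat.ofHom (algebraMap A (FractionRing A))) v).asIdeal =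
          (v : PrimeSpectrum (FractionRing A)).asIdeal.comap (algebraMap A (FractionRing A)) from rfl,
          (Ideal.eq_bot_or_top _).resolve_right (v : PrimeSpectrum (FractionRing A)).isPrime.ne_top,
          ← RingHom.ker_eq_comap_bot, (RingHom.injective_iff_ker_eq_bot _).1 (IsFractionRing.injective A (FractionRing A))] at this
        exact this.symm
      have h5 : IsField A := IsLocalRing.isField_iff_maximalIdeal_eq.2 h4
      rw [ringKrullDim_eq_zero_of_isField h5] at hdim
      exact absurd hdim (by decide)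
    let p₀ : Spec (CommRingCat.of (FractionRing A)) ⟶ Y :=
      IsOpenImmersion.lift U.ι η (by rintro _ ⟨v, rfl⟩; rw [Scheme.Opens.range_ι]; exact hηU v) ≫
        inv (f ∣_ U) ≫ (f ⁻¹ᵁ U).ι
    have hp₀ : p₀ ≫ f = η := by
      show (_ ≫ _ ≫ _) ≫ f = _
      rw [Category.assoc, Category.assoc, ← morphismRestrict_ι, IsIso.inv_hom_id_assoc, IsOpenImmersion.lift_fac]
    let p : Spec (CommRingCat.of (FractionRing A)) ⟶ pullback fs f :=
      pullback.lift (Spec.map (CommRingCat.ofHom (algebraMap A (FractionRing A)))) p₀ hp₀.symm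
    haveI : IsProper (pullback.fst fs f) := MorphismProperty.pullback_fst _ _ inferInstance
    obtain ⟨I, hN, hI⟩ := exists_indeterminacy_ideal (A := A) hdim (pullback.fst fs f) p (pullback.lift_fst _ _ _)
    refine ⟨I, hN, fun {B} _ _ {L} _ ι σ hι hισ hpr => ?_⟩
    let τ : FractionRing A →+* L := IsFractionRing.lift hισ
    obtain ⟨r, hr, -⟩ := hI ι τ σ hι (RingHom.ext fun a => (IsFractionRing.lift_algebraMap hισ a).symm) hpr
    refine ⟨r ≫ pullback.snd fs f, ?_⟩
    rw [Category.assoc, ← pullback.condition, ← Category.assoc, hr]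
  choose I hN hlift using hcore
  choose N hN using hN
  choose K hK hKo using fun y : T => exists_sheaf_at (hT y.1 y.2).1 (I y) (hN y)
  haveI : Fintype T := hTf.fintype
  let P : X.IdealSheafData := ∏ y : T, ptIdeal (hT y.1 y.2).1
  let 𝓘 : X.IdealSheafData := (∏ y : T, K y) * P
  have hptOff : ∀ (y : T) (x : X), x ≠ y.1 → stI (ptIdeal (hT y.1 y.2).1) x = ⊤ := fun y x hx =>
    not_not.1 fun e => hx (by
      have h := mem_support_iff_stI.2 e
      rw [← SetLike.mem_coe, coe_support_ptIdeal] at h
      exact h)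
  have hPoff : ∀ x, x ∉ T → stI P x = ⊤ := fun x hx => by
    rw [stI_prod]
    rw [← Ideal.one_eq_top]
    exact Finset.prod_eq_one fun y _ => (hptOff y x fun e => hx (e ▸ y.2)).trans Ideal.one_eq_top.symm
  have hPon : ∀ y : T, stI P y.1 = IsLocalRing.maximalIdeal (X.presheaf.stalk y.1) := fun y => by
    rw [stI_prod, Finset.prod_eq_single y (fun z _ hz => (hptOff z y.1 fun e => hz (Subtype.ext e.symm)).trans Ideal.one_eq_top.symm)
      (fun h => absurd (Finset.mem_univ y) h), stI_ptIdeal]
  have hKon : ∀ y : T, stI (∏ z : T, K z) y.1 = I y := fun y => by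
    rw [stI_prod, Finset.prod_eq_single y (fun z _ hz => (hKo z y.1 fun e => hz (Subtype.ext e.symm)).trans Ideal.one_eq_top.symm)
      (fun h => absurd (Finset.mem_univ y) h), hK]
  have hsupp : (𝓘.support : Set X) ⊆ T := fun x hx => by
    by_contra hxT
    refine mem_support_iff_stI.1 hx ?_
    rw [stI_mul', hPoff x hxT, stI_prod, Ideal.mul_top, ← Ideal.one_eq_top]
    exact Finset.prod_eq_one fun y _ => (hKo y x fun e => hxT (e ▸ y.2)).trans Ideal.one_eq_top.symm
  obtain ⟨X', g, hg, hgU, hcart⟩ := exists_principalization X T hTf hTc hT 𝓘 hsupp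
  haveI : IsIso (g ∣_ U) := hgU
  have hcK : BlowUp.IsEffCartierIdeal ((∏ z : T, K z).comap g) := by
    rw [show 𝓘 = (∏ z : T, K z) * P from rfl, EffCartier.comap_mul] at hcart
    exact EffCartier.isEffCartierIdeal_of_mul_left hcart
  have hcP : BlowUp.IsEffCartierIdeal (P.comap g) := by
    rw [show 𝓘 = (∏ z : T, K z) * P from rfl, EffCartier.comap_mul] at hcart
    exact EffCartier.isEffCartierIdeal_of_mul_right hcart
  have hsuppP : ∀ x, g x ∈ U ↔ x ∉ (P.comap g).support := fun x => by
    rw [Scheme.IdealSheafData.support_comap]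
    show g x ∉ T ↔ g x ∉ P.support
    rw [not_iff_not]
    refine ⟨fun h => mem_support_iff_stI.2 ?_, fun h => by_contra fun hh => mem_support_iff_stI.1 h (hPoff _ hh)⟩
    rw [show g x = (⟨g x, h⟩ : T).1 from rfl, hPon]
    exact (IsLocalRing.maximalIdeal.isMaximal _).ne_top
  haveI : IsLocallyNoetherian X' := isLocallyNoetherian_of_seq hg inferInstance
  -- a lift at every point
  have hloc : ∀ x : X', ∃ φ : Spec (X'.presheaf.stalk x) ⟶ Y, φ ≫ f = X'.fromSpecStalk x ≫ g := fun x => by
    by_cases hxU : g x ∈ U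
    · have hr : Set.range (X'.fromSpecStalk x ≫ g) ⊆ Set.range U.ι := by
        rintro _ ⟨v, rfl⟩
        rw [Scheme.Opens.range_ι]
        have hv : X'.fromSpecStalk x v ∈ Set.range (X'.fromSpecStalk x) := ⟨v, rfl⟩
        rw [Scheme.range_fromSpecStalk] at hv
        by_contra hcon
        exact hxU (((hv : _ ⤳ x).map g.continuous).mem_closed hTc (not_not.1 hcon))
      refine ⟨IsOpenImmersion.lift U.ι _ hr ≫ inv (f ∣_ U) ≫ (f ⁻¹ᵁ U).ι, ?_⟩
      rw [Category.assoc, Category.assoc, ← morphismRestrict_ι, IsIso.inv_hom_id_assoc, IsOpenImmersion.lift_fac]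
    · have hxT : g x ∈ T := not_not.1 hxU
      let y : T := ⟨g x, hxT⟩
      haveI := (hT _ hxT).2.1
      haveI := RegLoc.isDomain (X.presheaf.stalk (g x))
      haveI := isRegularLocalRing_of_seq hg x inferInstance
      haveI := RegLoc.isDomain (X'.presheaf.stalk x)
      let B := X'.presheaf.stalk x
      let σ := (g.stalkMap x).hom
      -- the generic point of the local ring lies over `U`
      let w := X'.fromSpecStalk x (⟨⊥, Ideal.isPrime_bot⟩ : PrimeSpectrum B)
      have hw : w ⤳ x := RelMin.fromSpecStalk_specializes_self _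
      have hwU : g w ∈ U := by
        rw [hsuppP]
        intro hmem
        obtain ⟨V, hxV, e, he, hspan⟩ := hcP x
        have hwV : w ∈ V.1 := hw.mem_open V.1.2 hxV
        rw [Scheme.IdealSheafData.mem_support_iff_of_mem (U := V) hwV, Scheme.mem_zeroLocus_iff] at hmem
        refine hmem e (hspan ▸ Ideal.mem_span_singleton_self e) ?_
        show (⟨⊥, Ideal.isPrime_bot⟩ : PrimeSpectrum B) ∈ (X'.fromSpecStalk x) ⁻¹ᵁ X'.basicOpen e
        rw [Scheme.preimage_basicOpen, Scheme.fromSpecStalk_app hxV, CommRingCat.comp_apply,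
          CommRingCat.comp_apply]
        rw [Scheme.basicOpen_res, AlgebraicGeometry.basicOpen_eq_of_affine']
        refine ⟨hw.mem_open V.1.2 hxV, ?_⟩
        intro hbot
        rw [← CommRingCat.comp_apply, Iso.inv_hom_id, CommRingCat.id_apply, Ideal.mem_bot] at hbot
        have hnz : X'.presheaf.germ V.1 x hxV e ≠ 0 := by
          letI := TopCat.Presheaf.algebra_section_stalk X'.presheaf (⟨x, hxV⟩ : V.1)
          haveI := V.2.isLocalization_stalk ⟨x, hxV⟩
          exact nonZeroDivisors.ne_zero (IsLocalization.map_nonZeroDivisors_le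
            (V.2.primeIdealOf ⟨x, hxV⟩).asIdeal.primeCompl B ⟨e, he, rfl⟩)
        exact hnz hbot
      have hσ : Function.Injective σ := by
        rw [RingHom.injective_iff_ker_eq_bot, RingHom.ker_eq_comap_bot]
        by_contra hne
        let Q : PrimeSpectrum (X.presheaf.stalk (g x)) := ⟨(⊥ : Ideal B).comap σ, Ideal.IsPrime.comap _⟩
        have hgw : g w = X.fromSpecStalk (g x) Q := by
          show (X'.fromSpecStalk x ≫ g) _ = _
          rw [← Scheme.SpecMap_stalkMap_fromSpecStalk]
          rfl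
        have hlt : X.fromSpecStalk (g x) ⟨⊥, Ideal.isPrime_bot⟩ ⤳ g w := by
          rw [hgw]; exact RelMin.fromSpecStalk_specializes bot_le
        have hne' : X.fromSpecStalk (g x) ⟨⊥, Ideal.isPrime_bot⟩ ≠ g w := fun e => hne (by
          rw [hgw] at e
          exact (congrArg PrimeSpectrum.asIdeal ((X.fromSpecStalk (g x)).isEmbedding.injective e)).symm)
        have h1 := DivDesc12.ringKrullDim_stalk_lt hlt hne'
        haveI : IsOpenImmersion (g ∣_ U) := IsOpenImmersion.of_isIso _
        have h2 : IsIso ((g ∣_ U).stalkMap ⟨w, hwU⟩) := inferInstance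
        haveI : IsIso (g.stalkMap w) := ((MorphismProperty.isomorphisms CommRingCat.{u}).arrow_mk_iso_iff
          (morphismRestrictStalkMap g U ⟨w, hwU⟩)).1 h2
        rw [ringKrullDim_eq_of_ringEquiv (asIso (g.stalkMap w)).commRingCatIsoToRingEquiv] at h1
        -- `w` is a maximal point
        have h3 : ringKrullDim (X'.presheaf.stalk w) = 0 := by
          obtain ⟨V, hV, hxV⟩ := DivDesc12.exists_affine x
          refine le_antisymm ?_ ringKrullDim_nonneg_of_nontrivial
          refine iSup_le fun s => ?_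
          rcases Nat.eq_zero_or_pos s.length with h | h
          · rw [h]; rfl
          · exfalso
            have hs : X'.fromSpecStalk w (s 0) ⤳ X'.fromSpecStalk w (s (Fin.last _)) :=
              RelMin.fromSpecStalk_specializes (s.strictMono.monotone (Fin.zero_le _))
            have hsp : X'.fromSpecStalk w (s 0) ⤳ w := RelMin.fromSpecStalk_specializes_self _
            have hrange : X'.fromSpecStalk w (s 0) ∈ Set.range (X'.fromSpecStalk x) := by
              rw [Scheme.range_fromSpecStalk]; exact hsp.trans hw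
            obtain ⟨R, hR⟩ := hrange
            have hRle : (R : PrimeSpectrum B).asIdeal ≤ ⊥ := by
              refine (PrimeSpectrum.le_iff_specializes (R : PrimeSpectrum B) ⟨⊥, Ideal.isPrime_bot⟩).2 ?_
              exact (X'.fromSpecStalk x).isEmbedding.isInducing.specializes_iff.1 (hR ▸ hsp)
            have hw0 : X'.fromSpecStalk w (s 0) = w := by
              rw [← hR]
              exact congrArg (X'.fromSpecStalk x) (PrimeSpectrum.ext (le_bot_iff.1 hRle))
            have h0 : s 0 = IsLocalRing.closedPoint _ :=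
              (X'.fromSpecStalk w).isEmbedding.injective (hw0.trans Scheme.fromSpecStalk_closedPoint.symm)
            have hlt0 : s 0 < s (Fin.last _) := s.strictMono (by simp [Fin.lt_def, h])
            rw [h0] at hlt0
            exact hlt0.not_ge (IsLocalRing.le_maximalIdeal (s (Fin.last _)).isPrime.ne_top)
        rw [h3] at h1
        exact absurd (lt_of_le_of_lt ringKrullDim_nonneg_of_nontrivial h1) (lt_irrefl _)
      have hpr : ((I y).map σ).IsPrincipal := by
        obtain ⟨V, hxV, e, -, hspan⟩ := hcK x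
        refine ⟨X'.presheaf.germ V.1 x hxV e, ?_⟩
        show _ = Ideal.span _
        rw [← hKon y, ← stI_comap, stI_eq _ V hxV, hspan, Ideal.map_span, Set.image_singleton]
      obtain ⟨r, hr⟩ := hlift y (algebraMap B (FractionRing B)) σ (IsFractionRing.injective B _)
        ((IsFractionRing.injective B (FractionRing B)).comp hσ) hpr
      refine ⟨r, hr.trans ?_⟩
      exact Scheme.SpecMap_stalkMap_fromSpecStalk g
  choose φ hφ using hloc
  choose V hV ψ hψ1 hψ2 using fun x => spread_out_of_isGermInjective' g f (φ x) (hφ x)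
  have hcov : IsOpenCover V := (TopologicalSpace.IsOpenCover.mk <| eq_top_iff.2 fun x _ => Opens.mem_iSup.2 ⟨x, hV x⟩)
  let 𝒰 := X'.openCoverOfIsOpenCover V hcov
  have hagree : ∀ a b : X', pullback.fst (V a).ι (V b).ι ≫ ψ a = pullback.snd (V a).ι (V b).ι ≫ ψ b := fun a b => by
    let i := pullback.fst (V a).ι (V b).ι ≫ (V a).ι
    refine eq_of_cartier f U (i ≫ g) (D := (P.comap g).comap i)
      (BlowUpExist.isEffCartierIdeal_comap_of_isOpenImmersion hcP i) (fun w => ?_) ?_ ?_
    · rw [Scheme.IdealSheafData.support_comap (P.comap g) i]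
      exact hsuppP (i w)
    · rw [Category.assoc, hψ2 a, ← Category.assoc]
    · rw [Category.assoc, hψ2 b, ← Category.assoc, ← pullback.condition]
  refine ⟨X', g, hg, hgU, 𝒰.glueMorphisms ψ hagree, 𝒰.hom_ext _ _ fun a => ?_⟩
  rw [← Category.assoc, Scheme.Cover.ι_glueMorphisms]
  exact hψ2 a

end Groth.Agent.PointBlowUp
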