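import Groth.Agent.Lib.PointBlowUp32.Embed
import Groth.Agent.Lib.RelMin32.Birat
import Groth.Agent.Lib.RelMin32.Factor
import Groth.Agent.Lib.BlowUpReg6.Main
import Groth.Agent.Lib.BlowUpFib6.Basic
import Groth.Agent.Lib.Fibration13.Basic
import Groth.Agent.Lib.Stein6.StrictLocal
import Groth.Agent.Lib.CohFound.ProjRelVan
import Groth.Agent.Lib.RegExt.P1
import Groth.Agent.S10829
import Groth.Prelude.Def_ModelsG
import Mathlib

/-!
# The exceptional curve of a point blowing up of a regular surface
-/

set_option autoImplicit false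
set_option linter.style.haveILetI false
set_option linter.unusedSectionVars false
set_option backward.isDefEq.respectTransparency false
set_option maxHeartbeats 2000000

universe u

open CategoryTheory CategoryTheory.Limits AlgebraicGeometry TopologicalSpace

noncomputable section

namespace Groth.Agent.PointBlowUp

theorem isIso_of_finite_fibres {X Y : Scheme.{u}} [IsIntegral X] [IsIntegral Y] (f : X ⟶ Y) [IsProper f]
    (hY : Pi1.IsNormalScheme Y) (hgen : f (genericPoint X) = genericPoint Y)
    [hbir : IsIso (f.stalkMap (genericPoint X))] (hfin : ∀ y : Y, (f ⁻¹' {y}).Finite) : IsIso f := by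
  have hdom : f.base (genericPoint X) ⤳ genericPoint Y := specializes_of_eq hgen
  have h0 : ∀ V : Y.Opens, Function.Bijective (f.app V).hom := fun V => by
    refine Groth.Agent.Fibration13.bijective_app_of_birational f hY hdom ?_ V
    rw [CohIII.stalkToFunctionField, RingHom.coe_comp]
    haveI : IsIso (Y.presheaf.stalkSpecializes hdom) :=
      (Y.presheaf.stalkCongr (.of_eq hgen.symm)).isIso_hom
    exact (ConcreteCategory.bijective_of_isIso (f.stalkMap (genericPoint X))).comp
      (ConcreteCategory.bijective_of_isIso (Y.presheaf.stalkSpecializes hdom))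
  haveI : LocallyQuasiFinite f := LocallyQuasiFinite.of_finite_preimage_singleton _ hfin
  haveI : IsFinite f := IsFinite.of_isProper_of_locallyQuasiFinite f
  have hcov : (⨆ U : Y.affineOpens, (U : Y.Opens)) = ⊤ := iSup_affineOpens_eq_top _
  refine (IsZariskiLocalAtTarget.iff_of_iSup_eq_top (P := MorphismProperty.isomorphisms Scheme) _ hcov).2 fun U => ?_
  haveI : IsAffine (U : Y.Opens).toScheme := U.2
  haveI : IsAffine (f ⁻¹ᵁ (U : Y.Opens)).toScheme := U.2.preimage f
  refine Stein6.isIso_of_bijective_appTop _ ?_
  rw [morphismRestrict_appTop, CommRingCat.hom_comp, RingHom.coe_comp]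
  exact (ConcreteCategory.bijective_of_isIso (X.presheaf.map (eqToHom _).op)).comp (h0 _)

theorem eq_of_restrict {X Y : Scheme.{u}} (f : X ⟶ Y) (V : Y.Opens) [IsIso (f ∣_ V)] {a b : X}
    (ha : f a ∈ V) (h : f a = f b) : a = b := by
  have hbase : ∀ v : (f ⁻¹ᵁ V : X.Opens), f ((f ⁻¹ᵁ V).ι v) = ((f ∣_ V) v).1 :=
    fun v => (congrArg (fun g => g v) (congrArg (fun t => t.base) (morphismRestrict_ι f V))).symm
  have hb : f b ∈ V := h ▸ ha
  have := @(ConcreteCategory.bijective_of_isIso (f ∣_ V).base).1 ⟨a, ha⟩ ⟨b, hb⟩
    (Subtype.ext ((hbase ⟨a, ha⟩).symm.trans (Eq.trans h (hbase ⟨b, hb⟩))))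
  exact congrArg Subtype.val this

/-- The closed point as a closed immersion cuts out the maximal ideal. -/
theorem ker_residue (A : Type u) [CommRing A] [IsLocalRing A] :
    (Spec.map (CommRingCat.ofHom (IsLocalRing.residue A))).ker = Curv2.idealSheaf A (IsLocalRing.maximalIdeal A) := by
  refine Scheme.IdealSheafData.ext_of_isAffine ?_
  rw [Scheme.Hom.ker_apply, Curv2.idealSheaf, Scheme.IdealSheafData.ofIdealTop_ideal]
  let f := Spec.map (CommRingCat.ofHom (IsLocalRing.residue A))
  have hnat : ∀ c : A, f.appTop ((Scheme.ΓSpecIso (CommRingCat.of A)).inv c) =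
      (Scheme.ΓSpecIso _).inv (IsLocalRing.residue A c) := fun c =>
    (ConcreteCategory.congr_hom (Scheme.ΓSpecIso_inv_naturality (CommRingCat.ofHom (IsLocalRing.residue A))) c).symm
  ext z
  obtain ⟨c, rfl⟩ := (ConcreteCategory.bijective_of_isIso (Scheme.ΓSpecIso (CommRingCat.of A)).inv).2 z
  constructor
  · intro h
    have h1 : f.appTop ((Scheme.ΓSpecIso (CommRingCat.of A)).inv c) = 0 := h
    rw [hnat, map_eq_zero_iff _ (ConcreteCategory.bijective_of_isIso (Scheme.ΓSpecIso _).inv).1] at h1
    simpa using Ideal.mem_map_of_mem (Scheme.ΓSpecIso (CommRingCat.of A)).inv.hom ((IsLocalRing.residue_eq_zero_iff c).1 h1)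
  · intro h
    have h1 : ((Scheme.ΓSpecIso (CommRingCat.of A)).inv c) ∈
        (IsLocalRing.maximalIdeal A).map (Scheme.ΓSpecIso (CommRingCat.of A)).inv.hom := by simpa using h
    obtain ⟨d, hd, hdc⟩ := (Ideal.mem_map_iff_of_surjective _
      (ConcreteCategory.bijective_of_isIso (Scheme.ΓSpecIso (CommRingCat.of A)).inv).2).1 h1
    show f.appTop _ = 0
    rw [← hdc, hnat, (IsLocalRing.residue_eq_zero_iff d).2 hd, map_zero]

/-- Blowing up the closed point of a two-dimensional regular local ring has a projective line as exceptional curve. -/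
theorem exceptional_local (A : Type u) [CommRing A] [IsRegularLocalRing A] (hA : ringKrullDim A = 2)
    (X : Scheme.{u}) (b : X ⟶ Spec (CommRingCat.of A))
    (hb : BlowUp.IsBlowUp b (Curv2.idealSheaf A (IsLocalRing.maximalIdeal A))) :
    (∃ r : X ⟶ CohB1.ProjSpace 1 A, IsClosedImmersion r ∧ r ≫ CohB1.ProjSpace.toSpec 1 A = b ∧
      Nonempty ((Scheme.Modules.pullback r).obj (Twist.twistProjSpace 1 A 1) ≅
        ClSub.idealMod (BlowUp.exceptional b (Curv2.idealSheaf A (IsLocalRing.maximalIdeal A))))) ∧
    ∃ e : CohB1.ProjSpace 1 (IsLocalRing.ResidueField A) ≅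
        (BlowUp.exceptional b (Curv2.idealSheaf A (IsLocalRing.maximalIdeal A))).subscheme,
      e.hom ≫ (BlowUp.exceptional b (Curv2.idealSheaf A (IsLocalRing.maximalIdeal A))).subschemeι ≫ b =
        CohB1.ProjSpace.toSpec 1 (IsLocalRing.ResidueField A) ≫ Spec.map (CommRingCat.ofHom (IsLocalRing.residue A)) ∧
      Nonempty ((Scheme.Modules.pullback (e.hom ≫
        (BlowUp.exceptional b (Curv2.idealSheaf A (IsLocalRing.maximalIdeal A))).subschemeι)).obj
        (ClSub.idealMod (BlowUp.exceptional b (Curv2.idealSheaf A (IsLocalRing.maximalIdeal A)))) ≅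
          Twist.twistProjSpace 1 (IsLocalRing.ResidueField A) 1) := by
  classical
  let m := IsLocalRing.maximalIdeal A
  let κ := IsLocalRing.ResidueField A
  let S : Scheme.{u} := Spec (CommRingCat.of A)
  let C := Curv2.idealSheaf A m
  let toS := (Scheme.ΓSpecIso (CommRingCat.of A)).inv
  have h2 : m.spanFinrank = 2 := by
    have := IsRegularLocalRing.spanFinrank_maximalIdeal (R := A)
    rw [hA] at this
    exact_mod_cast this
  obtain ⟨t, ht, hspan⟩ := Submodule.FG.exists_span_finset_card_eq_spanFinrank (IsNoetherian.noetherian m)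
  obtain ⟨p, q, -, rfl⟩ := Finset.card_eq_two.1 (ht.trans h2)
  have hm : m = Ideal.span {p, q} := by
    rw [show m = Ideal.span (({p, q} : Finset A) : Set A) from hspan.symm]
    simp
  have hCtop : C.ideal ⟨⊤, isAffineOpen_top _⟩ = Ideal.span (Set.range (gsec ![p, q])) := by
    have e1 : C.ideal ⟨⊤, isAffineOpen_top _⟩ = m.map toS.hom := by
      simp [C, Curv2.idealSheaf, toS]
    rw [e1, hm, Ideal.map_span]
    congr 1
    ext z
    simp [Set.image_pair, Fin.exists_fin_two, gsec, toS, eq_comm]
  obtain ⟨r, hr, hrb, ⟨τ⟩⟩ := exists_closedImmersion ![p, q] hCtop hb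
  refine ⟨⟨r, hr, hrb, ⟨τ⟩⟩, ?_⟩
  haveI := hr
  let E := BlowUp.exceptional b C
  let r₀ := Spec.map (CommRingCat.ofHom (IsLocalRing.residue A))
  haveI : IsClosedImmersion r₀ := IsClosedImmersion.spec_of_surjective _ (IsLocalRing.residue_surjective)
  haveI : IsLocallyNoetherian S := inferInstance
  haveI : IsProper b := BlowUpExist.isProper (BlowUpReg6.isFiniteTypeIdeal C) hb
  have hle : r₀.ker ≤ (E.subschemeι ≫ b).ker := by
    rw [ker_residue, ← Scheme.IdealSheafData.map_ker, Scheme.IdealSheafData.ker_subschemeι]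
    exact Scheme.IdealSheafData.le_map_comap _ _
  let g := IsClosedImmersion.lift r₀ (E.subschemeι ≫ b) hle
  have hg : g ≫ r₀ = E.subschemeι ≫ b := IsClosedImmersion.lift_fac _ _ _
  have H := ProjSpace.isPullback_map 1 (IsLocalRing.residue A)
  let μ := ProjSpace.map 1 (IsLocalRing.residue A)
  haveI : IsClosedImmersion μ := MorphismProperty.of_isPullback (P := @IsClosedImmersion) H.flip inferInstance
  let j := H.lift (E.subschemeι ≫ r) g (by rw [Category.assoc, hrb, hg])
  have hj : j ≫ μ = E.subschemeι ≫ r := H.lift_fst _ _ _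
  have hjs : j ≫ CohB1.ProjSpace.toSpec 1 κ = g := H.lift_snd _ _ _
  haveI : IsClosedImmersion (j ≫ μ) := by rw [hj]; infer_instance
  haveI : IsClosedImmersion j := IsClosedImmersion.of_comp j μ
  haveI := Groth.Agent.RegExt.isIntegral_projSpace 1 κ
  haveI : Surjective j := by
    refine ⟨fun z => ?_⟩
    by_contra hz
    let P := CohB1.ProjSpace 1 κ
    have hgenmem : genericPoint P ∉ Set.range j := fun hh =>
      hz ((genericPoint_specializes z).mem_closed j.isClosedEmbedding.isClosed_range hh)
    have hdimP : topologicalKrullDim P = 1 := by rw [Groth.Agent.S10829.result κ 1]; rfl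
    have hpts : ∀ w : P, w ≠ genericPoint P → IsClosed ({w} : Set P) := fun w hw => by
      by_contra hh
      obtain ⟨c, hc, hcw⟩ : ∃ c, c ∈ closure ({w} : Set P) ∧ c ≠ w := by
        by_contra h'
        push Not at h'
        exact hh (closure_eq_iff_isClosed.1 (Set.Subset.antisymm (fun c hc => h' c hc) subset_closure))
      let K : P → IrreducibleCloseds P := fun v => ⟨closure {v}, isIrreducible_singleton.closure, isClosed_closure⟩
      have hlt : ∀ {v v' : P}, v ⤳ v' → v ≠ v' → K v' < K v := fun {v v'} hv hne => by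
        refine lt_of_le_of_ne (specializes_iff_closure_subset.mp hv) fun he => hne ?_
        have he' : closure ({v'} : Set P) = closure {v} := congrArg (fun Z : IrreducibleCloseds P => (Z : Set P)) he
        exact (hv.antisymm (specializes_iff_closure_subset.mpr he'.ge)).eq
      let s : LTSeries (IrreducibleCloseds P) :=
        { length := 2
          toFun := ![K c, K w, K (genericPoint P)]
          step := fun i => by
            fin_cases i
            · exact hlt (specializes_iff_mem_closure.2 hc) hcw.symm
            · exact hlt (genericPoint_specializes w) hw.symm }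
      have h1 := Order.LTSeries.length_le_krullDim s
      have h3 : (s.length : WithBot ℕ∞) ≤ 1 := h1.trans hdimP.le
      rw [show s.length = 2 from rfl] at h3
      exact absurd h3 (by decide)
    haveI : IsProper (CohB1.ProjSpace.toSpec 1 κ) := Groth.Agent.ProjSpace.isProper_toSpec 1 κ
    haveI : IsLocallyNoetherian P := LocallyOfFiniteType.isLocallyNoetherian (CohB1.ProjSpace.toSpec 1 κ)
    haveI : CompactSpace P := QuasiCompact.compactSpace_of_compactSpace (CohB1.ProjSpace.toSpec 1 κ)
    haveI : AlgebraicGeometry.IsNoetherian P := {}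
    have hfin : (Set.range j).Finite := by
      obtain ⟨T₀, hT₀, hT1, hT2, hTeq⟩ := NoetherianSpace.exists_finite_set_isClosed_irreducible
        j.isClosedEmbedding.isClosed_range
      rw [hTeq]
      refine hT₀.sUnion fun T hT => ?_
      obtain ⟨v, hv⟩ := QuasiSober.sober (hT2 T hT) (hT1 T hT)
      have hvj : v ∈ Set.range j := hTeq ▸ Set.mem_sUnion_of_mem hv.mem hT
      rw [← hv.def, (hpts v fun h => hgenmem (h ▸ hvj)).closure_eq]
      exact Set.finite_singleton v
    haveI := hfin.to_subtype
    haveI : Finite E.subscheme :=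
      Finite.of_injective (fun v => (⟨j v, v, rfl⟩ : Set.range j)) (fun v v' h => j.isClosedEmbedding.injective (congrArg Subtype.val h))
    -- the blowing up is then finite, hence an isomorphism
    haveI : IsDomain A := Groth.Agent.RegLoc.isDomain A
    haveI : Nonempty X := by
      obtain ⟨Z, π, hπ⟩ : ∃ (Z : Scheme.{u}) (π : Z ⟶ S), BlowUp.IsBlowUp π C :=
        ⟨_, _, BlowUpExist.ChartIdx.isBlowUp_blowUpHom (C := C)⟩
      by_contra hX
      rw [not_nonempty_iff] at hX
      haveI : IsIso (b ∣_ EffCartier.cmpl C) := EffCartier.isIso_blowUp_restrict hb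
      have hη : genericPoint S ∈ EffCartier.cmpl C := by
        intro hh
        have hh2 : genericPoint S = IsLocalRing.closedPoint A := by
          have : genericPoint S ∈ Set.range r₀ := by
            rw [← r₀.isClosedEmbedding.isClosed_range.closure_eq, ← Scheme.Hom.support_ker, ker_residue]
            exact hh
          obtain ⟨v, hv⟩ := this
          rw [← hv]
          refine PrimeSpectrum.ext ?_
          show (v : PrimeSpectrum (IsLocalRing.ResidueField A)).asIdeal.comap (IsLocalRing.residue A) = _
          rw [(Ideal.eq_bot_or_top _).resolve_right (v : PrimeSpectrum (IsLocalRing.ResidueField A)).isPrime.ne_top,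
            ← RingHom.ker_eq_comap_bot, IsLocalRing.ker_residue]
          rfl
        have hcl : IsLocalRing.maximalIdeal A = ⊥ := by
          have := congrArg PrimeSpectrum.asIdeal hh2
          rw [genericPoint_eq_bot_of_affine] at this
          exact this.symm
        have hf : IsField A := IsLocalRing.isField_iff_maximalIdeal_eq.2 hcl
        rw [ringKrullDim_eq_zero_of_isField hf] at hA
        exact absurd hA (by decide)
      obtain ⟨v, -⟩ := (ConcreteCategory.bijective_of_isIso (b ∣_ EffCartier.cmpl C).base).2 ⟨_, hη⟩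
      exact hX.false ((b ⁻¹ᵁ EffCartier.cmpl C).ι v)
    obtain ⟨hint, hbgen, hηC⟩ := BlowUpFib6.isIntegral_of_isBlowUp hb
    haveI := hint
    haveI : IsIso (b ∣_ EffCartier.cmpl C) := EffCartier.isIso_blowUp_restrict hb
    obtain ⟨-, hbb⟩ := RelMin.birational_of_restrict b (U := EffCartier.cmpl C) ⟨_, hηC⟩
    haveI : IsIso b := by
      haveI := hbb
      refine isIso_of_finite_fibres b (fun w => ⟨inferInstance, ?_⟩) hbgen fun w => ?_
      · haveI := Groth.Agent.RegLoc.isRegularLocalRing_localization A (w : PrimeSpectrum A).asIdeal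
        haveI : IsRegularLocalRing (S.presheaf.stalk w) :=
          IsRegularLocalRing.of_ringEquiv (AlgebraicGeometry.Spec.stalkIso (CommRingCat.of A) w).symm.commRingCatIsoToRingEquiv
        exact RelMin.isDomain_normal.2
      · by_cases hw : w ∈ C.support
        · refine (Set.finite_range E.subschemeι).subset fun v hv => ?_
          show v ∈ Set.range E.subschemeι
          rw [Scheme.IdealSheafData.range_subschemeι, SetLike.mem_coe, Scheme.IdealSheafData.support_comap]
          show b v ∈ C.support
          rw [show b v = w from hv]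
          exact hw
        · refine Set.Subsingleton.finite fun u hu u' hu' => eq_of_restrict b (EffCartier.cmpl C) ?_ ?_
          · rw [show b u = w from hu]; exact hw
          · exact (hu : b u = w).trans (hu' : b u' = w).symm
    have hCC : BlowUp.IsEffCartierIdeal C := by
      have h1 := BlowUpExist.isEffCartierIdeal_comap_of_isOpenImmersion hb.1 (inv b)
      rwa [← Scheme.IdealSheafData.comap_comp, IsIso.inv_hom_id, Scheme.IdealSheafData.comap_id] at h1
    obtain ⟨U, hU, c, -, hc⟩ := hCC (IsLocalRing.closedPoint A)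
    have hUtop : U.1 = ⊤ := eq_top_iff.2 fun v _ =>
      (IsLocalRing.specializes_closedPoint (show PrimeSpectrum A from v)).mem_open U.1.2 hU
    obtain rfl : U = ⟨⊤, isAffineOpen_top _⟩ := Subtype.ext hUtop
    obtain ⟨c', rfl⟩ := (ConcreteCategory.bijective_of_isIso toS).2 c
    have e1 : C.ideal ⟨⊤, isAffineOpen_top _⟩ = m.map toS.hom := by
      simp [C, Curv2.idealSheaf, toS]
    have hm1 : m = Ideal.span {c'} := by
      have hbij := ConcreteCategory.bijective_of_isIso toS
      have h5 : (m.map toS.hom).comap toS.hom = ((Ideal.span {c'}).map toS.hom).comap toS.hom := by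
        rw [← e1, hc, Ideal.map_span, Set.image_singleton]
        try rfl
      rwa [Ideal.comap_map_of_bijective _ hbij, Ideal.comap_map_of_bijective _ hbij] at h5
    have h3 := Submodule.spanFinrank_span_le_ncard_of_finite (R := A) (M := A) (Set.finite_singleton c')
    have h4 : m.spanFinrank ≤ 1 := by rw [hm1]; simpa using h3
    omega
  haveI : IsIso j := isIso_of_isClosedImmersion_of_surjective j
  refine ⟨(asIso j).symm, ?_, ?_⟩
  · show inv j ≫ E.subschemeι ≫ b = _
    rw [← hg, ← hjs, Category.assoc, IsIso.inv_hom_id_assoc]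
  · obtain ⟨σ⟩ := CohFound.nonempty_pullback_twistProjSpace 1 (IsLocalRing.residue A) 1
    have he : (inv j ≫ E.subschemeι) ≫ r = μ := by
      rw [Category.assoc, ← hj, IsIso.inv_hom_id_assoc]
    exact ⟨(Scheme.Modules.pullback (inv j ≫ E.subschemeι)).mapIso τ.symm ≪≫
      (Scheme.Modules.pullbackComp (inv j ≫ E.subschemeι) r).app _ ≪≫
      (Scheme.Modules.pullbackCongr he).app _ ≪≫ σ⟩

end Groth.Agent.PointBlowUp
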