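import Groth.Agent.Lib.AmpleFib.PnVA
import Groth.Agent.Lib.AmpleImm18.Main
import Groth.Agent.Lib.BlowUpExist.Proper
import Groth.Agent.Lib.EffCartier.Comap
import Groth.Agent.Lib.TensorMod.IdealMod
import Groth.Agent.S3572
import Groth.Agent.S2894
import Groth.Prelude.Def_BlowUp2
import Mathlib

/-!
# A blowing up of an affine scheme in finitely many generators embeds into projective space
-/

set_option autoImplicit false
set_option linter.style.haveILetI false
set_option linter.unusedSectionVars false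
set_option backward.isDefEq.respectTransparency false
set_option backward.isDefEq.respectTransparency.types false
set_option maxHeartbeats 2000000

universe u

open CategoryTheory CategoryTheory.Limits AlgebraicGeometry TopologicalSpace Opposite

noncomputable section

namespace Groth.Agent.PointBlowUp

open Groth.Agent.BlowUpExist Groth.Agent.BlowUpExist.ChartIdx
open Groth.Agent.M1 (mres ores)

variable {A : Type u} [CommRing A] {n : ℕ} (a : Fin (n + 1) → A) {C : (Spec (CommRingCat.of A)).IdealSheafData}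

/-- The generators as global functions. -/
abbrev gsec (i : Fin (n + 1)) : Γ(Spec (CommRingCat.of A), ⊤) := (Scheme.ΓSpecIso (CommRingCat.of A)).inv (a i)

variable (hC : C.ideal ⟨⊤, isAffineOpen_top _⟩ = Ideal.span (Set.range (gsec a)))
  {X : Scheme.{u}} {b : X ⟶ Spec (CommRingCat.of A)}

/-- The generators pulled back. -/
abbrev fsec (b : X ⟶ Spec (CommRingCat.of A)) (i : Fin (n + 1)) : Γ(X, ⊤) := b.appTop (gsec a i)

/-- The generators on an open. -/
abbrev fres (b : X ⟶ Spec (CommRingCat.of A)) (V : X.Opens) (i : Fin (n + 1)) : Γ(X, V) :=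
  X.presheaf.map (homOfLE (le_top : V ≤ ⊤)).op (fsec a b i)

theorem appLE_gsec (V : X.Opens) (i : Fin (n + 1)) :
    b.appLE ⊤ V (fun _ _ => trivial) (gsec a i) = fres a b V i := rfl

/-- The chart of a generator. -/
abbrev cidx (k : Fin (n + 1)) : ChartIdx C :=
  ⟨⟨⊤, isAffineOpen_top _⟩, 0, gsec a k, by rw [zero_add, pow_one, hC]; exact Ideal.subset_span ⟨k, rfl⟩⟩

include hC

theorem ideal_eq (V : X.affineOpens) :
    (C.comap b).ideal V = Ideal.span (Set.range (fres a b V.1)) := by
  rw [EffCartier.comap_ideal C b ⟨⊤, isAffineOpen_top _⟩ V (fun _ _ => trivial), hC, Ideal.map_span,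
    ← Set.range_comp]
  rfl

variable (hb : BlowUp.IsBlowUp b C)
include hb

theorem fres_mem_nzd (k : Fin (n + 1)) :
    fres a b ((cidx a hC k).locus b) k ∈ nonZeroDivisors Γ(X, (cidx a hC k).locus b) :=
  (isEqn_locus hb (cidx a hC k)).mem

theorem ideal_locus (k : Fin (n + 1)) :
    (C.comap b).ideal ⟨(cidx a hC k).locus b, isAffineOpen_locus hb _⟩ =
      Ideal.span {fres a b ((cidx a hC k).locus b) k} := by
  have h := (isEqn_locus hb (cidx a hC k)).ideal_eq
  rw [show ((cidx a hC k).n + 1) = 1 from rfl, pow_one] at h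
  exact h

theorem exists_mem_locus (x : X) : ∃ k, x ∈ (cidx a hC k).locus b := by
  obtain ⟨k, O, hx, hO⟩ := S2894.exists_chart_generator (U := ⟨⊤, isAffineOpen_top _⟩) hb.1 (gsec a) hC
    (fun l => (cidx a hC l).mem) (y := x) trivial
  exact ⟨k, le_locus hO hx⟩

theorem exists_sec (i : Fin (n + 1)) :
    ∃ s : Γ(ClSub.idealMod (BlowUp.exceptional b C), ⊤),
      M2.idealIncl (BlowUp.exceptional b C) s = fsec a b i := by
  classical
  refine M2.exists_idealIncl_eq _ _ ?_
  let E := BlowUp.exceptional b C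
  have hle : C ≤ (E.subschemeι ≫ b).ker := by
    rw [← Scheme.IdealSheafData.map_ker, Scheme.IdealSheafData.ker_subschemeι]
    exact Scheme.IdealSheafData.le_map_comap _ _
  haveI : QuasiCompact (E.subschemeι ≫ b) := by
    haveI : IsProper b := BlowUpExist.isProper_of_affine ⟨Finset.univ.image (gsec a), by rw [hC, Finset.coe_image, Finset.coe_univ, Set.image_univ]⟩ hb
    infer_instance
  have h1 : gsec a i ∈ (E.subschemeι ≫ b).ker.ideal ⟨⊤, isAffineOpen_top _⟩ :=
    hle ⟨⊤, isAffineOpen_top _⟩ (hC ▸ Ideal.subset_span ⟨i, rfl⟩)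
  rw [Scheme.Hom.ker_apply] at h1
  exact h1

variable (s : Fin (n + 1) → Γ(ClSub.idealMod (BlowUp.exceptional b C), ⊤))
  (hs : ∀ i, M2.idealIncl (BlowUp.exceptional b C) (s i) = fsec a b i)
include hs

theorem idealIncl_mres (V : X.Opens) (i : Fin (n + 1)) :
    M2.idealIncl (BlowUp.exceptional b C) (mres (ClSub.idealMod _) (le_top : V ≤ ⊤) (s i)) = fres a b V i := by
  have h := M2.idealIncl_res (BlowUp.exceptional b C) (le_top : V ≤ ⊤) (s i)
  rw [hs] at h
  exact h

theorem gl_sec (k : Fin (n + 1)) : VA11.gl (s k) = (cidx a hC k).locus b := by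
  let E := BlowUp.exceptional b C
  refine le_antisymm ?_ ?_
  · intro x hx
    obtain ⟨V, hxV, hVgl, e, he⟩ := EffCartier.exists_isEqn hb.1 hx
    have hgen := VA11.isGen_of_le_gl (s := s k) hVgl
    have hspan : (C.comap b).ideal V = Ideal.span {fres a b V.1 k} := by
      refine le_antisymm (fun z hz => ?_) ((Ideal.span_singleton_le_iff_mem _).2 ?_)
      · obtain ⟨w, hw⟩ := (M2.range_idealIncl E V).ge hz
        obtain ⟨c, hc⟩ := (hgen V.1 le_rfl).2 w
        refine Ideal.mem_span_singleton'.2 ⟨c, ?_⟩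
        rw [← hw, ← hc, ← idealIncl_mres a hC hb s hs V.1 k]
        simp only [M1.mres_id]
        exact (M2.idealIncl_smul E _ _).symm
      · rw [ideal_eq a hC]
        exact Ideal.subset_span ⟨k, rfl⟩
    have hmem : fres a b V.1 k ∈ nonZeroDivisors Γ(X, V.1) := by
      have h1 : e ∈ Ideal.span {fres a b V.1 k} := hspan ▸ (he.ideal_eq ▸ Ideal.mem_span_singleton_self e)
      obtain ⟨u, hu⟩ := Ideal.mem_span_singleton'.1 h1
      have := he.mem
      rw [← hu] at this
      exact (mul_mem_nonZeroDivisors.1 this).2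
    have hM := mem_basicOpen_ι (cidx a hC k) hb.1 (V := V) (fun _ _ => trivial) (e := fres a b V.1 k)
      (by rw [show ((cidx a hC k).n + 1) = 1 from rfl, pow_one]; exact ⟨hmem, hspan⟩) 1 (by rw [mul_one]; rfl)
    exact le_locus hM (by rw [Scheme.basicOpen_of_isUnit _ isUnit_one]; exact hxV)
  · refine VA11.le_gl le_top ?_
    exact M2.isGenerator_idealMod E (U := ⟨_, isAffineOpen_locus hb _⟩) _ (fres_mem_nzd a hC hb k)
      (ideal_locus a hC hb k) _ (idealIncl_mres a hC hb s hs _ k)

theorem generated : ProjUP.GeneratedBy (ClSub.idealMod (BlowUp.exceptional b C)) s := fun x => by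
  have hL := M2.isInvertible_idealMod _ hb.1
  obtain ⟨k, hk⟩ := exists_mem_locus a hC hb x
  rw [← gl_sec a hC hb s hs k, VA11.mem_gl_iff hL (Opens.mem_top x)] at hk
  refine eq_top_iff.2 fun z _ => ?_
  obtain ⟨c, rfl⟩ := hk.2 z
  exact Submodule.smul_mem _ c (Submodule.subset_span ⟨k, rfl⟩)

theorem cf_mul (k i : Fin (n + 1)) :
    VA11.cf (s k) (s i) * fres a b (VA11.gl (s k)) k = fres a b (VA11.gl (s k)) i := by
  rw [← idealIncl_mres a hC hb s hs _ k, ← idealIncl_mres a hC hb s hs _ i, ← M2.idealIncl_smul]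
  exact congrArg _ (VA11.cf_smul (s k) (s i))

omit hs in
/-- The morphism into projective space given by the generators. -/
theorem exists_closedImmersion :
    ∃ r : X ⟶ CohB1.ProjSpace n A, IsClosedImmersion r ∧ r ≫ CohB1.ProjSpace.toSpec n A = b ∧
      Nonempty ((Scheme.Modules.pullback r).obj (_root_.Twist.twistProjSpace n A 1) ≅
        ClSub.idealMod (BlowUp.exceptional b C)) := by
  classical
  choose s hs using exists_sec a hC hb
  have hL := M2.isInvertible_idealMod _ hb.1
  obtain ⟨r, hr, τ, hτ⟩ := S3572.result n b _ hL s (generated a hC hb s hs)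
  refine ⟨r, ?_, hr, ⟨τ⟩⟩
  have hcs : AmpleFib.coordSec r τ = s := funext hτ
  let D : Fin (n + 1) → (CohB1.ProjSpace n A).Opens := fun k =>
    Proj.basicOpen (CohB1.polyGrading n A) (MvPolynomial.X k)
  have hD : ∀ k, IsAffineOpen (D k) := fun k =>
    Proj.isAffineOpen_basicOpen _ _ (AmpleFib.X_mem_one k) one_pos
  refine IsZariskiLocalAtTarget.of_iSup_eq_top (P := @IsClosedImmersion) D (ProjSpace.iSup_basicOpen n A) fun k => ?_
  let G := VA11.gl (s k)
  have hpre : r ⁻¹ᵁ D k = G := by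
    rw [← AmpleFib.gl_coordSec r τ hL k, hcs]
  have hGl : G = (cidx a hC k).locus b := gl_sec a hC hb s hs k
  have hGa : IsAffineOpen G := hGl ▸ isAffineOpen_locus hb _
  let P : Subring Γ(X, G) := (r.appLE (D k) G hpre.ge).hom.range
  have hev : ∀ p, ProjUP.ev (CohB1.polyGrading n A) (AmpleFib.X_mem_one k) r G hpre.ge p ∈ P :=
    fun p => ⟨_, rfl⟩
  have hbase : ∀ c : A, b.appLE ⊤ G (fun _ _ => trivial) ((Scheme.ΓSpecIso (CommRingCat.of A)).inv c) ∈ P := fun c => by
    have h := ProjUP.ev_algebraMap (CohB1.polyGrading n A) (AmpleFib.X_mem_one k) r G hpre.ge c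
    have h1 : (r ≫ ProjUP.toBase (CohB1.polyGrading n A)).appTop ((Scheme.ΓSpecIso (CommRingCat.of A)).inv c) =
        b.appTop ((Scheme.ΓSpecIso (CommRingCat.of A)).inv c) :=
      congrArg (fun h : X ⟶ Spec (CommRingCat.of A) => h.appTop ((Scheme.ΓSpecIso (CommRingCat.of A)).inv c)) hr
    rw [h1] at h
    have := hev (algebraMap A _ c)
    rw [h] at this
    exact this
  have hcf : ∀ i, VA11.cf (s k) (s i) ∈ P := fun i => by
    have h := AmpleFib.cf_coordSec r τ hL k i
    have key : ∀ (σ : Fin (n + 1) → Γ(ClSub.idealMod (BlowUp.exceptional b C), ⊤))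
        (h' : VA11.gl (σ k) ≤ r ⁻¹ᵁ D k), σ = AmpleFib.coordSec r τ →
        VA11.cf (σ k) (σ i) ∈ (r.appLE (D k) (VA11.gl (σ k)) h').hom.range := by
      rintro σ h' rfl
      exact ⟨_, h⟩
    exact key s hpre.ge hcs.symm
  have hsurj : Function.Surjective (r.appLE (D k) G hpre.ge) := by
    suffices hP : ∀ z, z ∈ P by intro z; exact hP z
    let ci := cidx a hC k
    haveI : IsAffine ci.U.1.toScheme := ci.U.2
    obtain ⟨φ, hφ, hφa⟩ := S2894.exists_bijective_locus hb ci
    have hres : ∀ z, Function.Surjective φ → (X.presheaf.map (eqToHom hGl).op) (φ z) ∈ P := fun z _ => by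
      obtain ⟨z, hz⟩ := z
      let ψ : BlowUp.affineAlgebra Γ(ci.U.1.toScheme, ⊤) (ci.J.ideal ⟨⊤, isAffineOpen_top _⟩) ci.sec →+* Γ(X, G) :=
        (X.presheaf.map (eqToHom hGl).op).hom.comp φ
      show ψ ⟨z, hz⟩ ∈ P
      have hψa : ∀ c : Γ(Spec (CommRingCat.of A), ⊤),
          ψ (algebraMap _ _ (ci.U.1.topIso.inv c)) = b.appLE ⊤ G (fun _ _ => trivial) c := fun c => by
        show X.presheaf.map (eqToHom hGl).op (φ _) = _
        rw [hφa, Iso.inv_hom_id_apply, ← CommRingCat.comp_apply, Scheme.Hom.appLE_map]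
      have halg : ∀ x : Γ(ci.U.1.toScheme, ⊤), ∃ c : A, ψ (algebraMap _ _ x) =
          b.appLE ⊤ G (fun _ _ => trivial) ((Scheme.ΓSpecIso (CommRingCat.of A)).inv c) := fun x => by
        refine ⟨(Scheme.ΓSpecIso (CommRingCat.of A)).hom (ci.U.1.topIso.hom x), ?_⟩
        rw [Iso.hom_inv_id_apply, ← hψa, Iso.hom_inv_id_apply]
      have hk : fres a b G k ∈ nonZeroDivisors Γ(X, G) := by
        have : ∀ (O : X.Opens), O = (cidx a hC k).locus b → fres a b O k ∈ nonZeroDivisors Γ(X, O) := by
          rintro O rfl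
          exact fres_mem_nzd a hC hb k
        exact this G hGl
      induction hz using Algebra.adjoin_induction with
      | mem x hx =>
        obtain ⟨y, hy, rfl⟩ := hx
        have hy' : ci.U.1.topIso.hom y ∈ Ideal.span (Set.range (gsec a)) := by
          rw [BlowUpExist.ChartIdx.J_ideal_top] at hy
          rw [show ((C ^ (ci.n + 1)).ideal ci.U) = C.ideal ⟨⊤, isAffineOpen_top _⟩ from by
            rw [show ci.n + 1 = 1 from rfl, pow_one], hC] at hy
          have h2 := Ideal.mem_map_of_mem ci.U.1.topIso.hom.hom hy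
          rw [Ideal.map_map] at h2
          rwa [show ci.U.1.topIso.hom.hom.comp ci.U.1.topIso.inv.hom = RingHom.id _ from
            RingHom.ext fun w => Iso.inv_hom_id_apply ci.U.1.topIso w, Ideal.map_id] at h2
        obtain ⟨w, hw⟩ := Ideal.mem_span_range_iff_exists_fun.1 hy'
        have hkey : ψ ⟨_, Algebra.subset_adjoin ⟨y, hy, rfl⟩⟩ * fres a b G k =
            (∑ i, b.appLE ⊤ G (fun _ _ => trivial) (w i) * VA11.cf (s k) (s i)) * fres a b G k := by
          rw [Finset.sum_mul]
          have e1 : fres a b G k = ψ (algebraMap _ _ ci.sec) := (hψa _).symm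
          conv_lhs => rw [e1, ← map_mul]
          rw [show (⟨_, Algebra.subset_adjoin ⟨y, hy, rfl⟩⟩ : BlowUp.affineAlgebra _ (ci.J.ideal ⟨⊤, isAffineOpen_top _⟩) ci.sec) *
            algebraMap _ _ ci.sec = algebraMap _ _ y from Subtype.ext (IsLocalization.mk'_spec _ y _),
            ← Iso.hom_inv_id_apply ci.U.1.topIso y, hψa, ← hw, map_sum]
          refine Finset.sum_congr rfl fun i _ => ?_
          rw [map_mul, mul_assoc, cf_mul a hC hb s hs k i]
          rfl
        rw [(mul_cancel_right_mem_nonZeroDivisors hk).1 hkey]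
        refine sum_mem fun i _ => mul_mem ?_ (hcf i)
        obtain ⟨c, hc⟩ := (ConcreteCategory.bijective_of_isIso (Scheme.ΓSpecIso (CommRingCat.of A)).inv).2 (w i)
        rw [← hc]
        exact hbase c
      | algebraMap x =>
        obtain ⟨c, hc⟩ := halg x
        exact hc ▸ hbase c
      | add x y hx' hy' hx hy =>
        exact (map_add ψ ⟨x, hx'⟩ ⟨y, hy'⟩) ▸ add_mem hx hy
      | mul x y hx' hy' hx hy =>
        exact (map_mul ψ ⟨x, hx'⟩ ⟨y, hy'⟩) ▸ mul_mem hx hy
    intro z
    obtain ⟨z', rfl⟩ := (ConcreteCategory.bijective_of_isIso (X.presheaf.map (eqToHom hGl).op)).2 z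
    obtain ⟨z'', rfl⟩ := hφ.2 z'
    exact hres z'' hφ.2
  haveI : IsAffine (D k).toScheme := hD k
  haveI : IsAffine (r ⁻¹ᵁ D k).toScheme := by rw [hpre]; exact hGa
  refine IsClosedImmersion.of_surjective_of_isAffine _ ?_
  rw [morphismRestrict_appTop, Scheme.Hom.app_eq_appLE, Scheme.Hom.appLE_map]
  have key : ∀ (U₀ : (CohB1.ProjSpace n A).Opens) (V₀ : X.Opens) (h₀ : V₀ ≤ r ⁻¹ᵁ U₀),
      U₀ = D k → V₀ = G → Function.Surjective (r.appLE U₀ V₀ h₀) := by
    rintro U₀ V₀ h₀ rfl rfl
    exact hsurj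
  exact key _ _ _ (Scheme.Opens.ι_image_top _) ((Scheme.Opens.ι_image_top _).trans hpre)

end Groth.Agent.PointBlowUp
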