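import Groth.Agent.Lib.PointBlowUp32.Principal
import Groth.Agent.Lib.SecDiv18.Peel
import Groth.Agent.Lib.CubeField.DivisorLocus
import Groth.Agent.Lib.IrrDiv13.Power
import Groth.Agent.Lib.RelMin32.Factor
import Mathlib

/-!
# The divisorial part of an ideal on a regular surface
-/

set_option autoImplicit false
set_option linter.style.haveILetI false
set_option linter.unusedSectionVars false
set_option backward.isDefEq.respectTransparency false
set_option maxHeartbeats 1000000

universe u

open CategoryTheory CategoryTheory.Limits AlgebraicGeometry TopologicalSpace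

noncomputable section

namespace Groth.Agent.PointBlowUp

variable {X : Scheme.{u}}

theorem ringKrullDim_stalk_trichotomy [IsIntegral X] [IsNoetherian X] (hX : RelMin.NoChain X) {z : X}
    (hz : z ≠ genericPoint X) :
    ringKrullDim (X.presheaf.stalk z) = 1 ∨
      (ringKrullDim (X.presheaf.stalk z) = 2 ∧ IsClosed ({z} : Set X)) := by
  have h1 : ringKrullDim (X.presheaf.stalk (genericPoint X)) < ringKrullDim (X.presheaf.stalk z) :=
    DivDesc12.ringKrullDim_stalk_lt (genericPoint_specializes z) hz.symm
  have h0 : (0 : WithBot ℕ∞) ≤ ringKrullDim (X.presheaf.stalk (genericPoint X)) := ringKrullDim_nonneg_of_nontrivial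
  have h2 : ringKrullDim (X.presheaf.stalk z) ≤ 2 := RelMin.ringKrullDim_stalk_le hX z
  have hpos : (0 : WithBot ℕ∞) < ringKrullDim (X.presheaf.stalk z) := lt_of_le_of_lt h0 h1
  obtain ⟨d, hd⟩ : ∃ d : ℕ, ringKrullDim (X.presheaf.stalk z) = (d : WithBot ℕ∞) := by
    generalize ringKrullDim (X.presheaf.stalk z) = r at h2 hpos
    induction r with
    | bot => exact absurd hpos (not_lt.2 bot_le)
    | coe r =>
      induction r using ENat.recTopCoe with
      | top => exact absurd h2 (by decide)
      | coe d => exact ⟨d, rfl⟩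
  rw [hd] at h2 hpos
  have hd1 : 0 < d := by exact_mod_cast hpos
  have hd2 : d ≤ 2 := by exact_mod_cast h2
  rcases (show d = 1 ∨ d = 2 by omega) with rfl | rfl
  · exact Or.inl (by rw [hd]; rfl)
  · refine Or.inr ⟨by rw [hd]; rfl, ?_⟩
    by_contra hc
    obtain ⟨c, hc1, hc2⟩ := exists_closure_ne hc
    have h3 := (DivDesc12.ringKrullDim_stalk_lt hc1 hc2.symm).trans_le (RelMin.ringKrullDim_stalk_le hX c)
    rw [hd] at h3
    exact lt_irrefl _ h3

theorem genericPoint_not_mem_support [IsIntegral X] {I : X.IdealSheafData} (hI : I ≠ ⊥) :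
    genericPoint X ∉ I.support := fun h => hI (le_bot_iff.1 (by
  have hsup : (⊤ : Closeds X) ≤ I.support := fun z _ => (genericPoint_specializes z).mem_closed I.support.isClosed h
  have hle : I ≤ Scheme.IdealSheafData.vanishingIdeal (⊤ : Closeds X) :=
    Scheme.IdealSheafData.le_support_iff_le_vanishingIdeal.mp hsup
  refine hle.trans ?_
  rw [← Scheme.IdealSheafData.support_bot, Scheme.IdealSheafData.vanishingIdeal_support]
  exact fun U => le_of_eq (by simp)))

/-- An ideal sheaf is a divisor times an ideal supported at finitely many closed points. -/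
theorem exists_divisorial [IsIntegral X] [IsNoetherian X] (hX : RelMin.NoChain X)
    (hreg : ∀ x : X, IsRegularLocalRing (X.presheaf.stalk x)) (I : X.IdealSheafData) :
    genericPoint X ∉ I.support → ∃ D J : X.IdealSheafData, BlowUp.IsEffCartierIdeal D ∧ I = D * J ∧
      (J.support : Set X).Finite ∧
      ∀ z ∈ (J.support : Set X), IsClosed ({z} : Set X) ∧ ringKrullDim (X.presheaf.stalk z) = 2 := by
  have hwf := (SecDiv.wellFoundedGT (X := X)).wf
  induction I using hwf.induction with
  | _ I ih =>
  intro hgen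
  have hufd : ∀ x : X, IsDomain (X.presheaf.stalk x) ∧ UniqueFactorizationMonoid (X.presheaf.stalk x) := fun x => by
    haveI := hreg x
    haveI := RegLoc.isDomain (X.presheaf.stalk x)
    haveI := RegLoc.ufd_of_isRegularLocalRing (X.presheaf.stalk x)
    exact ⟨inferInstance, inferInstance⟩
  by_cases hcurve : ∃ ζ ∈ I.support, ringKrullDim (X.presheaf.stalk ζ) = 1
  swap
  · push Not at hcurve
    have hall : ∀ z ∈ (I.support : Set X), IsClosed ({z} : Set X) ∧ ringKrullDim (X.presheaf.stalk z) = 2 :=
      fun z hz => ((ringKrullDim_stalk_trichotomy hX fun e => hgen (e ▸ hz)).resolve_left (hcurve z hz)).symm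
    refine ⟨⊤, I, EffCartier.isEffCartierIdeal_top, (by rw [mul_comm, SecDiv.mul_top']), ?_, hall⟩
    obtain ⟨S, hS, hS1, hS2, hSeq⟩ := NoetherianSpace.exists_finite_set_isClosed_irreducible I.support.isClosed
    haveI : Finite S := hS
    refine (Set.finite_range fun T : S => (hS2 T.1 T.2).genericPoint).subset fun a ha => ?_
    obtain ⟨T, hT, haT⟩ := Set.mem_sUnion.1 (hSeq ▸ ha : a ∈ ⋃₀ S)
    refine ⟨⟨T, hT⟩, ?_⟩
    have hg := (hS2 T hT).isGenericPoint_genericPoint (hS1 T hT)
    exact ((hg.specializes haT).mem_closed (hall _ (hSeq ▸ Set.mem_sUnion_of_mem hg.mem hT)).1 rfl).symm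
  obtain ⟨ζ, hζ, hdim⟩ := hcurve
  let Z : Closeds X := ⟨closure {ζ}, isClosed_closure⟩
  obtain ⟨E, hE, hEsupp⟩ := CubeField.exists_effCartier_of_closed Z (fun z hz hmin => by
      obtain rfl : ζ = z := hmin ζ (subset_closure rfl) (specializes_iff_mem_closure.2 hz)
      exact hdim) fun x _ => hufd x
  have hirr : IsIrreducible (E.support : Set X) := by
    rw [hEsupp]; exact isIrreducible_singleton.closure
  have hP : BlowUp.IsEffCartierIdeal E.radical :=
    (IrrDiv13.exists_eq_pow E (fun x => haveI := (hufd x).1; (hufd x).2) hE hirr).1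
  let P := E.radical
  have hPsupp : (P.support : Set X) = closure {ζ} := by
    rw [Scheme.IdealSheafData.support_radical, hEsupp]; rfl
  have hle : I ≤ P := by
    show I ≤ E.radical
    rw [← Scheme.IdealSheafData.vanishingIdeal_support]
    refine Scheme.IdealSheafData.le_support_iff_le_vanishingIdeal.mp ?_
    show (E.support : Set X) ⊆ I.support
    rw [hEsupp]
    exact I.support.isClosed.closure_subset_iff.2 (Set.singleton_subset_iff.2 hζ)
  let I' := EffCartier.colon I hP
  have hII' : I' * P = I := EffCartier.colon_mul hP hle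
  have hle' : I ≤ I' := fun U => by
    show I.ideal U ≤ I'.ideal U
    conv_lhs => rw [← hII', Scheme.IdealSheafData.ideal_mul, Pi.mul_apply]
    exact Ideal.mul_le_left
  have hlt : I < I' := lt_of_le_of_ne hle' fun e => by
    obtain ⟨w, hw, -, hmax⟩ := SecDiv.exists_maximal_of_colon_eq hP (show I * P = I by conv_lhs => rw [e, hII'])
      (z := ζ) (by rw [← SetLike.mem_coe, hPsupp]; exact subset_closure rfl)
    exact hgen (hmax _ (genericPoint_specializes w) ▸ hw)
  have hgen' : genericPoint X ∉ I'.support := fun h =>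
    hgen (Scheme.IdealSheafData.support_antitone hle' h)
  obtain ⟨D, J, hD, hDJ, hfin, hpts⟩ := ih I' hlt hgen'
  refine ⟨P * D, J, EffCartier.isEffCartierIdeal_mul hP hD, ?_, hfin, hpts⟩
  rw [mul_assoc, ← hDJ, mul_comm, hII']

end Groth.Agent.PointBlowUp
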