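import Groth.Agent.Lib.PointBlowUp32.Seq
import Groth.Agent.Lib.PointBlowUp32.Chart
import Groth.Agent.Lib.PointBlowUp32.Contract
import Groth.Agent.Lib.DivDesc12.Stalk
import Mathlib

/-!
# The stalks over a regular point which is blown up
-/

set_option autoImplicit false
set_option linter.style.haveILetI false
set_option linter.unusedSectionVars false
set_option backward.isDefEq.respectTransparency false
set_option maxHeartbeats 1000000

universe u

open CategoryTheory CategoryTheory.Limits AlgebraicGeometry TopologicalSpace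

noncomputable section

namespace Groth.Agent.PointBlowUp

theorem specMap_stHom {A : Type u} [CommRing A] {Z : Scheme.{u}} (b : Z ⟶ Spec (CommRingCat.of A)) (w : Z) :
    Spec.map (CommRingCat.ofHom (stHom b w)) = Z.fromSpecStalk w ≫ b := by
  have h : CommRingCat.ofHom (stHom b w) =
      ((Scheme.ΓSpecIso (CommRingCat.of A)).inv ≫ b.appTop) ≫ Z.presheaf.germ ⊤ w trivial := rfl
  have h2 : Z.fromSpecStalk w ≫ Z.toSpecΓ = Spec.map (Z.presheaf.germ ⊤ w trivial) := Scheme.fromSpecStalk_toSpecΓ Z w
  rw [h, Spec.map_comp, Spec.map_comp, ← h2, Category.assoc, ← Scheme.toSpecΓ_naturality_assoc,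
    toSpecΓ_SpecMap_ΓSpecIso_inv, Category.comp_id]

variable {X Y : Scheme.{u}} (f : X ⟶ Y) {y : Y}

/-- The map from the local ring of the centre to that of a point over it. -/
abbrev sigma {q : X} (h : f q = y) : Y.presheaf.stalk y →+* X.presheaf.stalk q :=
  (f.stalkMap q).hom.comp (DivDesc12.sp (specializes_of_eq h))

theorem specMap_sigma {q : X} (h : f q = y) :
    Spec.map (CommRingCat.ofHom (sigma f h)) ≫ Y.fromSpecStalk y = X.fromSpecStalk q ≫ f := by
  have e : CommRingCat.ofHom (sigma f h) = Y.presheaf.stalkSpecializes (specializes_of_eq h) ≫ f.stalkMap q := rfl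
  rw [e, Spec.map_comp, Category.assoc, Scheme.SpecMap_stalkSpecializes_fromSpecStalk,
    Scheme.SpecMap_stalkMap_fromSpecStalk]

theorem sigma_mem_maximal {q : X} (h : f q = y) {a : Y.presheaf.stalk y}
    (ha : a ∈ IsLocalRing.maximalIdeal (Y.presheaf.stalk y)) :
    sigma f h a ∈ IsLocalRing.maximalIdeal (X.presheaf.stalk q) := by
  subst h
  show (f.stalkMap q).hom (DivDesc12.sp (specializes_of_eq rfl) a) ∈ _
  rw [DivDesc12.sp_self]
  exact map_nonunit (f.stalkMap q).hom a ha

theorem isIso_stalkMap_of_flat_preimmersion {Z W : Scheme.{u}} (i : Z ⟶ W) [Flat i] [IsPreimmersion i] (z : Z) :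
    IsIso (i.stalkMap z) := by
  refine (ConcreteCategory.isIso_iff_bijective _).2 ⟨?_, i.stalkMap_surjective z⟩
  have hf : (i.stalkMap z).hom.Flat := Flat.stalkMap i z
  algebraize [(i.stalkMap z).hom]
  haveI : Module.FaithfullyFlat (W.presheaf.stalk (i z)) (Z.presheaf.stalk z) :=
    @Module.FaithfullyFlat.of_flat_of_isLocalHom _ _ _ _ _ _ _ ‹_› (i.toLRSHom.prop z)
  exact FaithfulSMul.algebraMap_injective (W.presheaf.stalk (i z)) (Z.presheaf.stalk z)

variable (hy : IsClosed ({y} : Set Y)) [IsRegularLocalRing (Y.presheaf.stalk y)]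
  (hdim : ringKrullDim (Y.presheaf.stalk y) = 2) (hf : BlowUp.IsBlowUp f (ptIdeal hy))
include hdim hf

theorem exists_local_model {q : X} (hq : f q = y) :
    ∃ (W : Scheme.{u}) (b : W ⟶ Spec (Y.presheaf.stalk y)) (w : W) (e : X.presheaf.stalk q ≃+* W.presheaf.stalk w),
      BlowUp.IsBlowUp b (Curv2.idealSheaf (Y.presheaf.stalk y) (IsLocalRing.maximalIdeal _)) ∧
      ∀ a, e (sigma f hq a) = stHom b w a := by
  let fs := Y.fromSpecStalk y
  haveI : Flat fs := Descend.flat_fromSpecStalk _
  have hloc := BlowUp26.isBlowUp_flat_baseChange fs hf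
  rw [comap_fromSpecStalk hy] at hloc
  let s := pullback.snd fs f
  haveI : Flat s := MorphismProperty.pullback_snd _ _ inferInstance
  obtain ⟨w, -, hw⟩ := Scheme.Pullback.exists_preimage_pullback (f := fs) (g := f)
    (IsLocalRing.closedPoint (Y.presheaf.stalk y)) q (by rw [Scheme.fromSpecStalk_closedPoint, hq])
  subst hw
  haveI := isIso_stalkMap_of_flat_preimmersion s w
  refine ⟨_, pullback.fst fs f, w, (asIso (s.stalkMap w)).commRingCatIsoToRingEquiv, hloc, ?_⟩
  have h : CommRingCat.ofHom (sigma f hq) ≫ s.stalkMap w = CommRingCat.ofHom (stHom (pullback.fst fs f) w) := by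
    refine Spec.map_injective ?_
    haveI : Mono fs := inferInstance
    rw [← cancel_mono fs, Spec.map_comp, Category.assoc, specMap_sigma, specMap_stHom,
      Scheme.SpecMap_stalkMap_fromSpecStalk_assoc, Category.assoc, pullback.condition]
  exact fun a => ConcreteCategory.congr_hom h a

/-- Points over the centre have regular local rings of dimension at most two. -/
theorem regular_of_over {q : X} (hq : f q = y) :
    IsRegularLocalRing (X.presheaf.stalk q) ∧ ringKrullDim (X.presheaf.stalk q) ≤ 2 := by
  obtain ⟨W, b, w, e, hb, -⟩ := exists_local_model f hy hdim hf hq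
  let A := Y.presheaf.stalk y
  let S := Spec A
  have hS : ∀ p : S, IsRegularLocalRing (S.presheaf.stalk p) := fun p => by
    haveI := Groth.Agent.RegLoc.isRegularLocalRing_localization A (p : PrimeSpectrum A).asIdeal
    exact IsRegularLocalRing.of_ringEquiv (AlgebraicGeometry.Spec.stalkIso A p).symm.commRingCatIsoToRingEquiv
  have hc : IsClosed ({IsLocalRing.closedPoint A} : Set S) := IsLocalRing.isClosed_singleton_closedPoint A
  haveI := hS (IsLocalRing.closedPoint A)
  have hSc : RelMin.NoChain S := RelMin.noChain_of_dim (by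
    show topologicalKrullDim (PrimeSpectrum A) ≤ 2
    rw [PrimeSpectrum.topologicalKrullDim_eq_ringKrullDim, hdim])
  have hd : ringKrullDim (S.presheaf.stalk (IsLocalRing.closedPoint A)) = 2 := by
    rw [ringKrullDim_eq_of_ringEquiv (AlgebraicGeometry.Spec.stalkIso A (IsLocalRing.closedPoint A)).commRingCatIsoToRingEquiv,
      show ringKrullDim (CommRingCat.of (Localization.AtPrime (IsLocalRing.closedPoint A).asIdeal)) =
        (IsLocalRing.closedPoint A).asIdeal.height from IsLocalization.AtPrime.ringKrullDim_eq_height _ _]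
    show ((IsLocalRing.maximalIdeal A).height : WithBot ℕ∞) = 2
    rw [IsLocalRing.maximalIdeal_height_eq_ringKrullDim, hdim]
  have hb' : BlowUp.IsBlowUp b (ptIdeal hc) := by
    have hker : Curv2.idealSheaf A (IsLocalRing.maximalIdeal A) = ptIdeal hc := by
      rw [← ker_residue, RedSepLib.ker_eq_vanishingIdeal]
      refine congrArg Scheme.IdealSheafData.vanishingIdeal (Closeds.ext ?_)
      show closure (Set.range (Spec.map (CommRingCat.ofHom (IsLocalRing.residue A)))) = {IsLocalRing.closedPoint A}
      have : Set.range (Spec.map (CommRingCat.ofHom (IsLocalRing.residue A))) = {IsLocalRing.closedPoint A} := by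
        ext p
        constructor
        · rintro ⟨v, rfl⟩
          rw [Subsingleton.elim v (IsLocalRing.closedPoint (IsLocalRing.ResidueField A))]
          exact IsLocalRing.comap_closedPoint (IsLocalRing.residue A)
        · rintro rfl
          exact ⟨IsLocalRing.closedPoint (IsLocalRing.ResidueField A), IsLocalRing.comap_closedPoint (IsLocalRing.residue A)⟩
      rw [this, hc.closure_eq]
    rw [← hker]
    exact hb
  haveI := isRegularLocalRing hc hS hb' w
  haveI := isProper hc hb'
  haveI : IsLocallyNoetherian W := LocallyOfFiniteType.isLocallyNoetherian b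
  exact ⟨IsRegularLocalRing.of_ringEquiv e.symm, (ringKrullDim_eq_of_ringEquiv e).le.trans
    (RelMin.ringKrullDim_stalk_le (noChain hc hb' hd hSc) w)⟩

/-- Closed points over the centre have local rings of dimension two. -/
theorem ringKrullDim_of_over {q : X} (hq : f q = y) (hqc : IsClosed ({q} : Set X)) :
    ringKrullDim (X.presheaf.stalk q) = 2 := by
  obtain ⟨η, hη, hηc, hpts⟩ := exists_eta hy hf hdim
  obtain ⟨c, hc, hcy⟩ := exists_generization_out hy hf η
  refine le_antisymm (regular_of_over f hy hdim hf hq).2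
    (two_le_ringKrullDim_stalk hc (hpts q hq).1 (fun e => hcy (e ▸ hη)) fun e => hηc (e ▸ hqc))

/-- Coordinates at a point over the centre. -/
theorem exists_coordinates {q : X} (hq : f q = y) :
    ∃ (x v : Y.presheaf.stalk y) (t : X.presheaf.stalk q),
      IsLocalRing.maximalIdeal (Y.presheaf.stalk y) = Ideal.span {x, v} ∧
      sigma f hq x * t = sigma f hq v ∧ sigma f hq x ∈ nonZeroDivisors (X.presheaf.stalk q) ∧
      ∀ z : X.presheaf.stalk q, ∃ p s : Polynomial (Y.presheaf.stalk y),
        IsUnit (s.eval₂ (sigma f hq) t) ∧ z * s.eval₂ (sigma f hq) t = p.eval₂ (sigma f hq) t := by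
  classical
  obtain ⟨W, b, w, e, hb, he⟩ := exists_local_model f hy hdim hf hq
  let A := Y.presheaf.stalk y
  let m := IsLocalRing.maximalIdeal A
  have h2 : m.spanFinrank = 2 := by
    have := IsRegularLocalRing.spanFinrank_maximalIdeal (R := A)
    rw [hdim] at this
    exact_mod_cast this
  obtain ⟨T, hT, hspan⟩ := Submodule.FG.exists_span_finset_card_eq_spanFinrank (IsNoetherian.noetherian m)
  obtain ⟨p, r, -, rfl⟩ := Finset.card_eq_two.1 (hT.trans h2)
  have hm : m = Ideal.span {p, r} := by
    rw [show m = Ideal.span (({p, r} : Finset A) : Set A) from hspan.symm]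
    simp
  have hC : (Curv2.idealSheaf A m).ideal ⟨⊤, isAffineOpen_top _⟩ = Ideal.span (Set.range (gsec ![p, r])) := by
    have e1 : (Curv2.idealSheaf A m).ideal ⟨⊤, isAffineOpen_top _⟩ =
        m.map (Scheme.ΓSpecIso (CommRingCat.of A)).inv.hom := by
      simp [Curv2.idealSheaf]
    rw [e1, hm, Ideal.map_span]
    congr 1
    ext z
    simp [Set.image_pair, Fin.exists_fin_two, gsec, eq_comm]
  obtain ⟨k, t, ht, hnz, hgen⟩ := stalk_data ![p, r] hC hb w
  refine ⟨![p, r] k, ![p, r] (1 - k), e.symm t, ?_, ?_, ?_, fun z => ?_⟩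
  · show m = _
    rw [hm]
    fin_cases k
    · rfl
    · exact congrArg Ideal.span (Set.pair_comm p r)
  · refine e.injective ?_
    rw [map_mul, he, he, e.apply_symm_apply]
    exact ht
  · have h := he (![p, r] k)
    have hnz : e (sigma f hq (![p, r] k)) ∈ nonZeroDivisors _ := h.symm ▸ hnz
    rw [mem_nonZeroDivisors_iff_right] at hnz ⊢
    intro z hz
    refine e.injective ?_
    rw [map_zero]
    refine hnz _ ?_
    rw [← map_mul, hz, map_zero]
  · obtain ⟨P, S, hS, hPS⟩ := hgen (e z)
    have hev : ∀ R : Polynomial A, e (R.eval₂ (sigma f hq) (e.symm t)) = R.eval₂ (stHom b w) t := fun R => by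
      rw [show (e : X.presheaf.stalk q → W.presheaf.stalk w) = e.toRingHom from rfl, Polynomial.hom_eval₂]
      congr 1
      · exact RingHom.ext he
      · exact e.apply_symm_apply t
    refine ⟨P, S, ?_, e.injective ?_⟩
    · refine (isUnit_map_iff e _).1 ?_
      have := hev S
      exact this.symm ▸ hS
    · rw [map_mul]
      exact (congrArg₂ (· * ·) rfl (hev S)).trans (hPS.trans (hev P).symm)

end Groth.Agent.PointBlowUp
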