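import Groth.Agent.Lib.ProjSpace.Basic
import Mathlib

/-!
# Field-valued points of projective space and their extensions
-/

set_option autoImplicit false
set_option linter.style.haveILetI false
set_option linter.unusedSectionVars false
set_option backward.isDefEq.respectTransparency false
set_option maxHeartbeats 1000000

universe u

open CategoryTheory CategoryTheory.Limits AlgebraicGeometry MvPolynomial HomogeneousLocalization

noncomputable section

namespace Groth.Agent.PointBlowUp

open Groth.Agent.ProjSpace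

variable (n : ℕ) {R : Type u} [CommRing R]

/-- Homogeneous coordinates of a field-valued point, and the extension criterion. -/
theorem exists_coords {K : Type u} [Field K] (q : Spec (CommRingCat.of K) ⟶ CohB1.ProjSpace n R) (ψ : R →+* K)
    (hq : q ≫ CohB1.ProjSpace.toSpec n R = Spec.map (CommRingCat.ofHom ψ)) :
    ∃ a : Fin (n + 1) → K, (∃ i, a i = 1) ∧
      ∀ (k : Fin (n + 1)) {B : Type u} [CommRing B] {L : Type u} [Field L] (ι : B →+* L) (τ : K →+* L)
        (σ : R →+* B) (_ : ι.comp σ = τ.comp ψ) (b : Fin (n + 1) → B) (_ : τ (a k) ≠ 0)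
        (_ : ∀ j, ι (b j) * τ (a k) = τ (a j)),
        ∃ r : Spec (CommRingCat.of B) ⟶ CohB1.ProjSpace n R,
          r ≫ CohB1.ProjSpace.toSpec n R = Spec.map (CommRingCat.ofHom σ) ∧
          Spec.map (CommRingCat.ofHom ι) ≫ r = Spec.map (CommRingCat.ofHom τ) ≫ q := by
  classical
  obtain ⟨k₀, hk₀⟩ := exists_mem_chart n R (q (IsLocalRing.closedPoint K))
  have hrange : Set.range q ⊆ Set.range (chart n R k₀) := by
    rintro _ ⟨x, rfl⟩
    rw [Subsingleton.elim x (IsLocalRing.closedPoint K)]
    exact hk₀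
  let l := IsOpenImmersion.lift (chart n R k₀) q hrange
  obtain ⟨θ₀, hθ₀⟩ := Spec.map_surjective l
  let θ := θ₀.hom
  have hθ : Spec.map (CommRingCat.ofHom θ) ≫ chart n R k₀ = q := by
    rw [show CommRingCat.ofHom θ = θ₀ from rfl, hθ₀]
    exact IsOpenImmersion.lift_fac _ _ _
  have hψ : θ.comp MvPolynomial.C = ψ := by
    have h := hq
    rw [← hθ, Category.assoc, chart_toSpec, ← Spec.map_comp] at h
    exact congrArg CommRingCat.Hom.hom (Spec.map_injective h)
  let Φ : MvPolynomial (Fin (n + 1)) R →+* K := θ.comp (dehom R k₀)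
  let a : Fin (n + 1) → K := fun j => Φ (X j)
  have hak : a k₀ = 1 := by simp [a, Φ]
  refine ⟨a, ⟨k₀, hak⟩, fun k B _ L _ ι τ σ hσ b hk hb => ?_⟩
  have hk' : IsUnit (Φ (X k)) := isUnit_iff_ne_zero.2 fun h => hk (by
    show τ (Φ (X k)) = 0
    rw [h, map_zero])
  have hk0 : IsUnit (Φ (X k₀)) := by
    show IsUnit (a k₀)
    rw [hak]; exact isUnit_one
  let Ψ : ∀ i : Fin (n + 1), IsUnit (Φ (X i)) → (Away (Hom (Fin (n + 1)) R) (X i : MvPolynomial (Fin (n + 1)) R) →+* K) :=
    fun i hi => (IsLocalization.Away.lift (S := Localization.Away (X i : MvPolynomial (Fin (n + 1)) R)) (X i) hi).comp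
      (algebraMap _ (Localization.Away (X i : MvPolynomial (Fin (n + 1)) R)))
  have hx : IsUnit (Φ (X k₀ * X k)) := by rw [map_mul]; exact hk0.mul hk'
  let Θ : Away (Hom (Fin (n + 1)) R) (X k₀ * X k : MvPolynomial (Fin (n + 1)) R) →+* K :=
    (IsLocalization.Away.lift (S := Localization.Away (X k₀ * X k : MvPolynomial (Fin (n + 1)) R)) (X k₀ * X k) hx).comp
      (algebraMap _ (Localization.Away (X k₀ * X k : MvPolynomial (Fin (n + 1)) R)))
  have hΘ : ∀ (i j : Fin (n + 1)) (hi : IsUnit (Φ (X i)))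
      (e : (X k₀ * X k : MvPolynomial (Fin (n + 1)) R) = X i * X j),
      Θ.comp (awayMap (Hom (Fin (n + 1)) R) (X_mem R j) e) = Ψ i hi := fun i j hi e => by
    refine RingHom.ext fun z => ?_
    show IsLocalization.Away.lift _ hx (awayMap (Hom (Fin (n + 1)) R) (X_mem R j) e z).val = _
    rw [val_awayMap]
    refine RingHom.congr_fun (?_ : (IsLocalization.Away.lift (S := Localization.Away (X k₀ * X k : MvPolynomial (Fin (n + 1)) R)) _ hx).comp
      (Localization.awayLift _ _ _) = IsLocalization.Away.lift (X i) hi) z.val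
    refine IsLocalization.ringHom_ext (Submonoid.powers (X i : MvPolynomial (Fin (n + 1)) R)) (RingHom.ext fun c => ?_)
    simp [Localization.awayLift]
  have hΨ0 : Ψ k₀ hk0 = θ.comp (ofAway R k₀) := by
    refine RingHom.ext fun z => ?_
    show IsLocalization.Away.lift _ hk0 z.val = θ (ofAway R k₀ z)
    rw [ofAway_apply]
    refine RingHom.congr_fun (?_ : IsLocalization.Away.lift (X k₀) hk0 =
      θ.comp (IsLocalization.Away.lift (S := Localization.Away (X k₀ : MvPolynomial (Fin (n + 1)) R)) (X k₀)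
        (g := dehom R k₀) (by simp))) z.val
    refine IsLocalization.ringHom_ext (Submonoid.powers (X k₀ : MvPolynomial (Fin (n + 1)) R)) (RingHom.ext fun c => ?_)
    simp [Φ]
  have hq' : q = Spec.map (CommRingCat.ofHom (Ψ k hk')) ≫
      Proj.awayι (CohB1.polyGrading n R) (X k) (X_mem' n R k) Nat.one_pos := by
    rw [← hθ, ← hΘ k k₀ hk' (mul_comm _ _), CommRingCat.ofHom_comp, Spec.map_comp, Category.assoc]
    show _ ≫ chartP n R k₀ = _
    unfold chartP
    rw [← Category.assoc, ← Spec.map_comp, ← CommRingCat.ofHom_comp,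
      show θ.comp (chartEquiv R k₀).symm.toRingHom = Θ.comp (awayMap (Hom (Fin (n + 1)) R) (X_mem R k) rfl) from
        ((hΘ k₀ k hk0 rfl).trans hΨ0).symm,
      CommRingCat.ofHom_comp, Spec.map_comp, Category.assoc]
    congr 1
    exact (Proj.SpecMap_awayMap_awayι (CohB1.polyGrading n R) (X_mem' n R k₀) Nat.one_pos (X_mem' n R k) rfl).trans
      (Proj.SpecMap_awayMap_awayι (CohB1.polyGrading n R) (X_mem' n R k) Nat.one_pos (X_mem' n R k₀) (mul_comm _ _)).symm
  have hcoord : ∀ j, Ψ k hk' (coord R k j) * a k = a j := fun j => by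
    show IsLocalization.Away.lift (X k) hk' (coord R k j).val * Φ (X k) = Φ (X j)
    rw [val_coord, Localization.mk_eq_mk']
    have h := congrArg (IsLocalization.Away.lift (S := Localization.Away (X k : MvPolynomial (Fin (n + 1)) R)) (X k) hk')
      (IsLocalization.mk'_spec (Localization.Away (X k : MvPolynomial (Fin (n + 1)) R)) (X j)
        (⟨X k, 1, pow_one _⟩ : Submonoid.powers (X k : MvPolynomial (Fin (n + 1)) R)))
    rw [map_mul, IsLocalization.Away.lift_eq, IsLocalization.Away.lift_eq] at h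
    exact h
  have hconst : ∀ c, Ψ k hk' (const R k c) = ψ c := fun c => by
    show IsLocalization.Away.lift (X k) hk' (const R k c).val = ψ c
    rw [val_const, IsLocalization.Away.lift_eq, ← hψ]
    simp [Φ]
  let ψB : MvPolynomial {j : Fin (n + 1) // j ≠ k} R →+* B := eval₂Hom σ fun j => b j.1
  refine ⟨Spec.map (CommRingCat.ofHom ψB) ≫ chart n R k, ?_, ?_⟩
  · rw [Category.assoc, chart_toSpec, ← Spec.map_comp, ← CommRingCat.ofHom_comp]
    congr 2
    exact RingHom.ext fun c => eval₂Hom_C _ _ _
  · have key : ι.comp ψB = (τ.comp (Ψ k hk')).comp (toAway R k) := by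
      refine MvPolynomial.ringHom_ext (fun c => ?_) fun j => ?_
      · show ι (ψB (C c)) = τ (Ψ k hk' (toAway R k (C c)))
        rw [eval₂Hom_C, toAway_C, hconst, ← RingHom.comp_apply, hσ, RingHom.comp_apply]
      · show ι (ψB (X j)) = τ (Ψ k hk' (toAway R k (X j)))
        rw [eval₂Hom_X', toAway_X]
        refine mul_right_cancel₀ hk ?_
        rw [hb, ← map_mul, hcoord]
    rw [hq']
    show _ ≫ _ ≫ chartP n R k = _
    unfold chartP
    rw [← Category.assoc, ← Category.assoc, ← Spec.map_comp, ← Spec.map_comp, ← CommRingCat.ofHom_comp,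
      ← CommRingCat.ofHom_comp, key, ← Category.assoc, ← Spec.map_comp, ← CommRingCat.ofHom_comp]
    congr 3
    refine RingHom.ext fun z => ?_
    show τ (Ψ k hk' (toAway R k ((chartEquiv R k).symm z))) = τ (Ψ k hk' z)
    rw [← chartEquiv_apply, RingEquiv.apply_symm_apply]

end Groth.Agent.PointBlowUp
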